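import Cfsg.Agent.S3195
import Cfsg.Agent.Components.Cores
import Cfsg.Agent.PGroups.AutOrder
import Cfsg.Agent.LinearPerm.OddTransitiveBasics

/-!
# A group on a vector space over two elements with two-closed stabilisers

Hypotheses used for real class sizes with a disconnected prime graph, and elementary consequences:
every involution fixes exactly the square root of the space.
-/

set_option autoImplicit false
set_option linter.style.haveILetI false
set_option linter.unusedSectionVars false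

namespace Cfsg.Lib.RealSize

open Subgroup MulAction

/-- An element of two-power order. -/
def El2 {G : Type*} [Group G] (g : G) : Prop := ∃ k : ℕ, g ^ 2 ^ k = 1

/-- An involution. -/
def Invol {G : Type*} [Group G] (u : G) : Prop := u * u = 1 ∧ u ≠ 1

section Group

variable {G : Type*} [Group G]

theorem el2_of_pgroup {P : Subgroup G} (hP : IsPGroup 2 P) {g : G} (hg : g ∈ P) : El2 g := by
  obtain ⟨k, hk⟩ := hP ⟨g, hg⟩
  exact ⟨k, by simpa using congrArg Subtype.val hk⟩

theorem Invol.el2 {u : G} (hu : Invol u) : El2 u := ⟨1, by rw [pow_one, sq, hu.1]⟩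

theorem Invol.inv {u : G} (hu : Invol u) : u⁻¹ = u := inv_eq_of_mul_eq_one_right hu.1

theorem Invol.conj {u : G} (hu : Invol u) (h : G) : Invol (h * u * h⁻¹) := by
  refine ⟨by rw [conj_mul, hu.1, mul_one, mul_inv_cancel], fun e => hu.2 ?_⟩
  rwa [conj_eq_one_iff] at e

theorem eq_one_of_odd_el2 {g : G} (ho : Odd (orderOf g)) (h : El2 g) : g = 1 := by
  obtain ⟨k, hk⟩ := h
  exact orderOf_eq_one_iff.1 (Nat.eq_one_of_dvd_coprimes
    (Nat.Coprime.pow_right k (Nat.coprime_two_right.2 ho)) dvd_rfl (orderOf_dvd_of_pow_eq_one hk))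

theorem exists_pow_odd [Finite G] (g : G) : ∃ k : ℕ, Odd (orderOf (g ^ 2 ^ k)) := by
  obtain ⟨k, m, hm, hgm⟩ := Nat.exists_eq_two_pow_mul_odd (n := orderOf g) (orderOf_pos g).ne'
  refine ⟨k, ?_⟩
  rw [orderOf_pow_of_dvd (pow_ne_zero _ two_ne_zero) (hgm ▸ dvd_mul_right _ _), hgm,
    Nat.mul_div_cancel_left _ (by positivity)]
  exact hm

theorem el2_of_pow_odd_eq_one {g : G} {k : ℕ} (h : g ^ 2 ^ k = 1) : El2 g := ⟨k, h⟩

/-- A non-trivial element of two-power order has an involution among its powers. -/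
theorem exists_invol_pow {g : G} (h : El2 g) (hg : g ≠ 1) : ∃ n : ℕ, Invol (g ^ n) := by
  obtain ⟨k, hk⟩ := h
  induction k generalizing g with
  | zero => exact absurd (by simpa using hk) hg
  | succ k ih =>
    by_cases h2 : g ^ 2 = 1
    · exact ⟨1, by rw [pow_one, ← sq]; exact h2, by rwa [pow_one]⟩
    · obtain ⟨n, hn⟩ := ih h2 (by rwa [← pow_mul, ← pow_succ'])
      exact ⟨2 * n, by rwa [pow_mul]⟩

theorem odd_half {x : G} (hx : Odd (orderOf x)) : ∃ k : ℕ, (x ^ k) * (x ^ k) = x := by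
  obtain ⟨m, hm⟩ := hx
  refine ⟨m + 1, ?_⟩
  rw [← pow_add, show m + 1 + (m + 1) = orderOf x + 1 by omega, pow_succ, pow_orderOf_eq_one, one_mul]

theorem invert_pow {u x : G} (hu : u * u = 1) (h : u * x * u = x⁻¹) (n : ℕ) :
    u * x ^ n * u = (x ^ n)⁻¹ := by
  have hi : u⁻¹ = u := inv_eq_of_mul_eq_one_right hu
  rw [← inv_pow, ← h]
  nth_rewrite 2 [← hi]
  nth_rewrite 4 [← hi]
  rw [conj_pow]

theorem invert_zpow {u x : G} (hu : u * u = 1) (h : u * x * u = x⁻¹) (n : ℤ) :
    u * x ^ n * u = (x ^ n)⁻¹ := by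
  have hi : u⁻¹ = u := inv_eq_of_mul_eq_one_right hu
  rw [← inv_zpow, ← h]
  nth_rewrite 2 [← hi]
  nth_rewrite 4 [← hi]
  rw [conj_zpow]

theorem isConj_inv_of_invert {u x : G} (hu : u * u = 1) (h : u * x * u = x⁻¹) : IsConj x x⁻¹ :=
  isConj_iff.2 ⟨u, by rw [inv_eq_of_mul_eq_one_right hu, h]⟩

theorem eq_one_of_commute_invert {u x : G} (hx : Odd (orderOf x)) (hu : u * u = 1) (hc : Commute u x)
    (h : u * x * u = x⁻¹) : x = 1 :=
  Cfsg.Agent.S3195.eq_one_of_inv_eq hx (by rw [← h, hc.eq, mul_assoc, hu, mul_one])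

end Group

section Action

variable {H V : Type*} [Group H] [AddCommGroup V] [DistribMulAction H V]

/-- The vectors fixed by `u`. -/
def fx (V : Type*) [AddCommGroup V] [DistribMulAction H V] (u : H) : AddSubgroup V where
  carrier := {v | u • v = v}
  add_mem' := by
    intro a b (ha : u • a = a) (hb : u • b = b)
    show u • (a + b) = a + b
    rw [smul_add, ha, hb]
  zero_mem' := smul_zero u
  neg_mem' := by
    intro a (ha : u • a = a)
    show u • (-a) = -a
    rw [smul_neg, ha]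

theorem mem_fx {u : H} {v : V} : v ∈ fx V u ↔ u • v = v := Iff.rfl

theorem smul_mem_fx_conj {u : H} {v : V} (h : H) : h • v ∈ fx V (h * u * h⁻¹) ↔ v ∈ fx V u := by
  rw [mem_fx, mem_fx, mul_smul, mul_smul, inv_smul_smul, smul_left_cancel_iff]

theorem smul_mem_fx_of_commute {u h : H} {v : V} (hc : Commute h u) (hv : v ∈ fx V u) : h • v ∈ fx V u := by
  rw [mem_fx, ← mul_smul, ← hc.eq, mul_smul, mem_fx.1 hv]

/-- A normal two-subgroup fixes every point of an orbit of odd size. -/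
theorem odd_fix [Finite H] {Q M : Subgroup H} (hQ : IsPGroup 2 Q) (hQM : Q ≤ M)
    (hn : ∀ m ∈ M, ∀ q ∈ Q, m * q * m⁻¹ ∈ Q) {v : V} (hodd : Odd (Nat.card (orbit M v))) :
    ∀ q ∈ Q, q • v = v := by
  haveI := Fact.mk Nat.prime_two
  obtain ⟨⟨w, hw⟩, hfix⟩ := (hQ.comap_subtype (K := M)).nonempty_fixed_point_of_prime_not_dvd_card
    (orbit M v) (Nat.two_dvd_ne_zero.2 (Nat.odd_iff.1 hodd))
  obtain ⟨⟨m, hm⟩, rfl⟩ := hw
  intro q hq
  have h2 : (m * q * m⁻¹) • m • v = m • v :=
    congrArg Subtype.val (hfix ⟨⟨m * q * m⁻¹, hQM (hn m hm q hq)⟩, hn m hm q hq⟩)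
  rwa [mul_smul, mul_smul, inv_smul_smul, smul_left_cancel_iff] at h2

/-- An element of two-power order fixes a point in every invariant set of odd size. -/
theorem el2_fixed_in_orbit [Finite H] {u : H} (hu : El2 u) {v : V} (hodd : Odd (Nat.card (orbit H v))) :
    ∃ w ∈ orbit H v, u • w = w := by
  haveI := Fact.mk Nat.prime_two
  obtain ⟨k, hk⟩ := hu
  obtain ⟨j, -, hj⟩ := (Nat.dvd_prime_pow Nat.prime_two).1 (orderOf_dvd_of_pow_eq_one hk)
  have hZ : IsPGroup 2 (zpowers u) := IsPGroup.of_card (n := j) (by rw [Nat.card_zpowers, hj])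
  obtain ⟨⟨w, hw⟩, hfix⟩ := hZ.nonempty_fixed_point_of_prime_not_dvd_card
    (orbit H v) (Nat.two_dvd_ne_zero.2 (Nat.odd_iff.1 hodd))
  exact ⟨w, hw, congrArg Subtype.val (hfix ⟨u, mem_zpowers u⟩)⟩

end Action

/-- The configuration: stabilisers of non-zero vectors are two-closed with full Sylow subgroup, and a
non-trivial real element of odd order fixes no non-zero vector and has a centraliser transitive on orbits. -/
structure Spread (H V : Type*) [Group H] [AddCommGroup V] [DistribMulAction H V] : Prop where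
  h2 : ∀ v : V, v + v = 0
  syl : ∀ v : V, v ≠ 0 → ∃ S : Sylow 2 H, (∀ g ∈ (S : Subgroup H), g • v = v) ∧
    ∀ g : H, g • v = v → El2 g → g ∈ (S : Subgroup H)
  fpf : ∀ y : H, y ≠ 1 → Odd (orderOf y) → IsConj y y⁻¹ → ∀ v : V, y • v = v → v = 0
  trans : ∀ y : H, y ≠ 1 → Odd (orderOf y) → IsConj y y⁻¹ → ∀ v : V, ∀ h : H,
    ∃ c : H, Commute c y ∧ c • v = h • v

namespace Spread

variable {H V : Type*} [Group H] [Finite H] [AddCommGroup V] [Finite V] [DistribMulAction H V]
  [FaithfulSMul H V]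

theorem neg_eq (S : Spread H V) (v : V) : -v = v := neg_eq_of_add_eq_zero_right (S.h2 v)

theorem orbit_odd (S : Spread H V) (v : V) : Odd (Nat.card (orbit H v)) := by
  haveI := Fact.mk Nat.prime_two
  rcases eq_or_ne v 0 with rfl | hv
  · have : orbit H (0 : V) = {0} := Set.eq_singleton_iff_unique_mem.2
      ⟨mem_orbit_self 0, fun w ⟨h, hw⟩ => by rw [← hw]; exact smul_zero h⟩
    rw [this]
    simp
  · obtain ⟨P, hP, -⟩ := S.syl v hv
    have hle : (P : Subgroup H) ≤ stabilizer H v := fun g hg => mem_stabilizer_iff.2 (hP g hg)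
    rw [Nat.card_coe_set_eq, ← index_stabilizer, ← Nat.not_even_iff_odd, even_iff_two_dvd]
    exact fun hd => P.not_dvd_index (hd.trans (index_dvd_of_le hle))

theorem pCore_eq_bot (S : Spread H V) : Cfsg.pCore 2 H = ⊥ := by
  refine (eq_bot_iff_forall _).2 fun q hq => eq_of_smul_eq_smul (α := V) fun v => ?_
  rw [one_smul]
  refine odd_fix (M := ⊤) (Cfsg.Lib.Components.isPGroup_pCore 2) le_top
    (fun m _ x hx => (inferInstance : (Cfsg.pCore 2 H).Normal).conj_mem x hx m) ?_ q hq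
  have : orbit (⊤ : Subgroup H) v = orbit H v := Set.ext fun w =>
    ⟨fun ⟨g, hg⟩ => ⟨g, hg⟩, fun ⟨g, hg⟩ => ⟨⟨g, mem_top g⟩, hg⟩⟩
  rw [this]
  exact S.orbit_odd v

theorem exists_inverted (S : Spread H V) {u : H} (hu : Invol u) :
    ∃ x : H, x ≠ 1 ∧ Odd (orderOf x) ∧ u * x * u = x⁻¹ :=
  Cfsg.Agent.S3195.exists_inverted hu.1 (by rw [S.pCore_eq_bot, mem_bot]; exact hu.2)

/-- An involution fixes exactly the square root of the space. -/
theorem card_fx (S : Spread H V) {u : H} (hu : Invol u) :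
    Nat.card (fx V u) * Nat.card (fx V u) = Nat.card V := by
  obtain ⟨f, hf1, hfo, hf⟩ := S.exists_inverted hu
  obtain ⟨k, hk⟩ := odd_half hfo
  set g := f ^ k with hg
  have hgu : u * g * u = g⁻¹ := invert_pow hu.1 hf k
  have hconj : g⁻¹ * u * g = f⁻¹ * u := by
    have h1 : u * g = g⁻¹ * u := by
      rw [← hgu, mul_assoc (u * g), hu.1, mul_one]
    rw [mul_assoc, h1, ← mul_assoc, ← mul_inv_rev, hk]
  refine le_antisymm ?_ ?_
  · rw [← Nat.card_prod]
    refine Nat.card_le_card_of_injective (fun p : fx V u × fx V u => (p.1 : V) + g⁻¹ • (p.2 : V)) ?_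
    intro p q hpq
    have hd : (p.1 : V) - q.1 = g⁻¹ • ((q.2 : V) - p.2) := by
      rw [smul_sub, sub_eq_sub_iff_add_eq_add]
      exact hpq.trans (add_comm _ _)
    set d := (p.1 : V) - q.1 with hdd
    have hud : u • d = d := mem_fx.1 (sub_mem p.1.2 q.1.2)
    have hgd : g • d ∈ fx V u := by
      rw [hd, smul_inv_smul]
      exact sub_mem q.2.2 p.2.2
    have hfd : f • d = d := by
      have h1 : (g⁻¹ * u * g) • d = d := by
        rw [mul_smul, mul_smul, mem_fx.1 hgd, inv_smul_smul]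
      rw [hconj, mul_smul, hud, inv_smul_eq_iff] at h1
      exact h1.symm
    have hd0 : d = 0 := S.fpf f hf1 hfo (isConj_inv_of_invert hu.1 hf) d hfd
    have h1 : (p.1 : V) = q.1 := sub_eq_zero.1 hd0
    have h2 : (p.2 : V) = q.2 := by
      rw [hd0] at hd
      exact (sub_eq_zero.1 ((smul_eq_zero_iff_eq g⁻¹).1 hd.symm)).symm
    exact Prod.ext (Subtype.ext h1) (Subtype.ext h2)
  · let φ : V →+ V := AddMonoidHom.id V + DistribMulAction.toAddMonoidHom V u
    have hker : φ.ker = fx V u := by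
      ext v
      rw [AddMonoidHom.mem_ker, mem_fx]
      show v + u • v = 0 ↔ u • v = v
      rw [add_eq_zero_iff_eq_neg', S.neg_eq]
    have hrange : φ.range ≤ fx V u := by
      rintro _ ⟨v, rfl⟩
      show u • (v + u • v) = v + u • v
      rw [smul_add, ← mul_smul, hu.1, one_smul, add_comm]
    rw [AddSubgroup.card_eq_card_quotient_mul_card_addSubgroup φ.ker,
      Nat.card_congr (QuotientAddGroup.quotientKerEquivRange φ).toEquiv, hker]
    exact Nat.mul_le_mul_right _ (AddSubgroup.card_le_of_le hrange)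

theorem fx_ne_zero (S : Spread H V) [Nontrivial V] {u : H} (hu : Invol u) : ∃ v ∈ fx V u, v ≠ (0 : V) := by
  obtain ⟨x, hx⟩ := exists_ne (0 : V)
  by_cases h : x + u • x = 0
  · exact ⟨x, mem_fx.2 (by rwa [add_eq_zero_iff_eq_neg', S.neg_eq] at h), hx⟩
  · exact ⟨x + u • x, mem_fx.2 (by rw [smul_add, ← mul_smul, hu.1, one_smul, add_comm]), h⟩

theorem one_lt_card_fx (S : Spread H V) [Nontrivial V] {u : H} (hu : Invol u) :
    1 < Nat.card (fx V u) := by
  by_contra h
  have h1 : Nat.card (fx V u) = 1 := le_antisymm (not_lt.1 h) Nat.card_pos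
  have h2 := S.card_fx hu
  rw [h1, one_mul] at h2
  have h3 : 1 < Nat.card V := Finite.one_lt_card
  omega

end Spread

end Cfsg.Lib.RealSize
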