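import Cfsg.Agent.RealSize.Basic
import Cfsg.Agent.S3861
import Cfsg.Agent.OddChar.PF.OddOrder

/-!
# Lifting real elements through a kernel of odd order
-/

set_option autoImplicit false
set_option linter.style.haveILetI false
set_option linter.unusedSectionVars false

namespace Cfsg.Lib.RealSize

open Subgroup

variable {G K : Type*} [Group G] [Finite G] [Group K]

/-- A real element of a quotient by a kernel of odd order has a real preimage. -/
theorem exists_real_lift (φ : G →* K) (hφ : Function.Surjective φ) (hodd : Odd (Nat.card φ.ker)) {x : K}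
    (hx : IsConj x x⁻¹) : ∃ y : G, φ y = x ∧ IsConj y y⁻¹ := by
  haveI := Fact.mk Nat.prime_two
  obtain ⟨c, hc⟩ := isConj_iff.1 hx
  obtain ⟨g₀, hg₀⟩ := hφ c
  obtain ⟨y₀, hy₀⟩ := hφ x
  obtain ⟨k, m, hm, hgm⟩ := Nat.exists_eq_two_pow_mul_odd (n := orderOf g₀) (orderOf_pos g₀).ne'
  set g := g₀ ^ m with hg
  have hg2 : g ^ 2 ^ k = 1 := by rw [hg, ← pow_mul, mul_comm, ← hgm, pow_orderOf_eq_one]
  have hsq : ∀ a : G, φ a = x → φ (g₀ * g₀ * a * (g₀ * g₀)⁻¹) = x := by
    intro a ha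
    rw [map_mul, map_mul, map_inv, map_mul, ha, hg₀,
      show c * c * x * (c * c)⁻¹ = c * (c * x * c⁻¹) * c⁻¹ by group, hc,
      show c * x⁻¹ * c⁻¹ = (c * x * c⁻¹)⁻¹ by group, hc, inv_inv]
  have hinv : φ g * x * (φ g)⁻¹ = x⁻¹ := by
    obtain ⟨j, hj⟩ := hm
    rw [hg, hj, map_pow, hg₀]
    clear hj
    induction j with
    | zero => simpa using hc
    | succ j ih =>
      rw [show 2 * (j + 1) + 1 = 2 + (2 * j + 1) by ring, pow_add,
        show c ^ 2 * c ^ (2 * j + 1) * x * (c ^ 2 * c ^ (2 * j + 1))⁻¹ =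
          c * (c * (c ^ (2 * j + 1) * x * (c ^ (2 * j + 1))⁻¹) * c⁻¹) * c⁻¹ by rw [sq]; group, ih,
        show c * x⁻¹ * c⁻¹ = (c * x * c⁻¹)⁻¹ by group, hc, inv_inv, hc]
  let X : Type _ := {a : G // φ a = x}
  let σ : Equiv.Perm X :=
    { toFun := fun a => ⟨g * (a : G)⁻¹ * g⁻¹, by
        rw [map_mul, map_mul, map_inv, map_inv, a.2,
          show φ g * x⁻¹ * (φ g)⁻¹ = (φ g * x * (φ g)⁻¹)⁻¹ by group, hinv, inv_inv]⟩
      invFun := fun a => ⟨(g⁻¹ * (a : G) * g)⁻¹, by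
        have h : (φ g)⁻¹ * x * φ g = x⁻¹ := by
          calc (φ g)⁻¹ * x * φ g = ((φ g)⁻¹ * x⁻¹ * φ g)⁻¹ := by group
            _ = ((φ g)⁻¹ * (φ g * x * (φ g)⁻¹) * φ g)⁻¹ := by rw [hinv]
            _ = x⁻¹ := by group
        rw [map_inv, map_mul, map_mul, map_inv, a.2, h, inv_inv]⟩
      left_inv := fun a => Subtype.ext (by show (g⁻¹ * (g * (a : G)⁻¹ * g⁻¹) * g)⁻¹ = a; group)
      right_inv := fun a => Subtype.ext (by show g * ((g⁻¹ * (a : G) * g)⁻¹)⁻¹ * g⁻¹ = a; group) }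
  have hpow : ∀ n : ℕ, ∀ a : X, (((σ ^ (2 * n)) a : X) : G) = g ^ (2 * n) * a * (g ^ (2 * n))⁻¹ := by
    intro n
    induction n with
    | zero => intro a; simp
    | succ n ih =>
      intro a
      rw [show 2 * (n + 1) = 2 * n + 1 + 1 by ring, pow_succ σ, pow_succ σ, Equiv.Perm.mul_apply,
        Equiv.Perm.mul_apply, ih]
      show g ^ (2 * n) * (g * (g * (a : G)⁻¹ * g⁻¹)⁻¹ * g⁻¹) * (g ^ (2 * n))⁻¹ = _
      rw [pow_succ, pow_succ]; group
  have hσ : σ ^ (2 ^ (k + 1)) = 1 := Equiv.ext fun a => Subtype.ext (by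
    rw [pow_succ, mul_comm, hpow, mul_comm 2, pow_mul, hg2, one_pow]
    simp)
  obtain ⟨j, -, hj⟩ := (Nat.dvd_prime_pow Nat.prime_two).1 (orderOf_dvd_of_pow_eq_one hσ)
  have hZ : IsPGroup 2 (zpowers σ) := IsPGroup.of_card (n := j) (by rw [Nat.card_zpowers, hj])
  haveI : Finite X := Subtype.finite
  have hcard : Nat.card X = Nat.card φ.ker := Nat.card_congr
    { toFun := fun a => ⟨y₀⁻¹ * a, by rw [MonoidHom.mem_ker, map_mul, map_inv, hy₀, a.2, inv_mul_cancel]⟩
      invFun := fun n => ⟨y₀ * n, by rw [map_mul, MonoidHom.mem_ker.1 n.2, hy₀, mul_one]⟩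
      left_inv := fun a => Subtype.ext (mul_inv_cancel_left _ _)
      right_inv := fun n => Subtype.ext (inv_mul_cancel_left _ _) }
  obtain ⟨a, ha⟩ := hZ.nonempty_fixed_point_of_prime_not_dvd_card X
    (by rw [hcard]; exact Nat.two_dvd_ne_zero.2 (Nat.odd_iff.1 hodd))
  have hfix : g * (a : G)⁻¹ * g⁻¹ = a := congrArg Subtype.val (ha ⟨σ, mem_zpowers σ⟩)
  refine ⟨a, a.2, isConj_iff.2 ⟨g, ?_⟩⟩
  nth_rewrite 2 [← hfix]
  group

/-- A preimage of an element of odd order under a kernel of odd order has odd order. -/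
theorem odd_orderOf_of_lift (φ : G →* K) (hodd : Odd (Nat.card φ.ker)) {y : G}
    (hy : Odd (orderOf (φ y))) : Odd (orderOf y) := by
  refine (hy.mul hodd).of_dvd_nat (orderOf_dvd_of_pow_eq_one ?_)
  rw [pow_mul]
  have : y ^ orderOf (φ y) ∈ φ.ker := by rw [MonoidHom.mem_ker, map_pow, pow_orderOf_eq_one]
  simpa using congrArg Subtype.val (pow_card_eq_one' (x := (⟨_, this⟩ : φ.ker)))

/-- Without non-trivial real elements of odd order a finite group is solvable. -/
theorem isSolvable_of_no_real (L : Type*) [Group L] [Finite L]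
    (h : ∀ x : L, x ≠ 1 → Odd (orderOf x) → ¬ IsConj x x⁻¹) : Group.IsSolvable L := by
  haveI := Fact.mk Nat.prime_two
  let P : Sylow 2 L := default
  haveI hP : (P : Subgroup L).Normal := (Cfsg.Agent.S3861.result P).1 h
  have h1 : Group.IsSolvable (L ⧸ (P : Subgroup L)) := Cfsg.Agent.PF.isSolvable_of_odd _ (by
    rw [← index_eq_card, ← Nat.not_even_iff_odd, even_iff_two_dvd]
    exact P.not_dvd_index)
  haveI : Group.IsNilpotent (P : Subgroup L) := P.2.isNilpotent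
  haveI : Group.IsSolvable (P : Subgroup L) := inferInstance
  haveI := h1
  exact solvable_of_ker_le_range (P : Subgroup L).subtype (QuotientGroup.mk' (P : Subgroup L))
    (by simp)

end Cfsg.Lib.RealSize
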