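import Cfsg.Agent.RealSize.Cover
import Cfsg.Agent.RealSize.Lift

/-!
# The fixed spaces of involutions form a partition, and the group is solvable
-/

set_option autoImplicit false
set_option linter.style.haveILetI false
set_option linter.unusedSectionVars false

namespace Cfsg.Lib.RealSize.Spread

open Subgroup MulAction

variable {H V : Type*} [Group H] [Finite H] [AddCommGroup V] [Finite V] [DistribMulAction H V]
  [FaithfulSMul H V]

/-- Commuting involutions have the same fixed space. -/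
theorem fx_le_of_commute (S : Spread H V) [Nontrivial V] {u e : H} (hu : Invol u) (he : Invol e)
    (hc : Commute u e) : fx V e ≤ fx V u := by
  classical
  intro w₀ hw₀
  rcases eq_or_ne w₀ 0 with rfl | hw0
  · exact zero_mem _
  set J : Subgroup H := centralizer ({e} : Set H) with hJ
  obtain ⟨f, hf1, hfo, hf⟩ := S.exists_inverted he
  obtain ⟨z, hz1, hzo, hz, -, hcov⟩ := S.exists_cover he hfo hf1 hf
  have hodd : Odd (Nat.card (orbit J w₀)) := by
    let Φ : zpowers z × orbit J w₀ → orbit H w₀ := fun p => ⟨(p.1 : H) • (p.2 : V), by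
      obtain ⟨j, hj⟩ := p.2.2
      exact ⟨(p.1 : H) * (j : H), by show ((p.1 : H) * (j : H)) • w₀ = _; rw [mul_smul]; exact congrArg _ hj⟩⟩
    have hmem : ∀ w ∈ orbit J w₀, e • w = w := by
      rintro _ ⟨j, rfl⟩
      exact smul_mem_fx_of_commute (u := e) (mem_centralizer_singleton_iff.1 j.2) hw₀
    have hbij : Function.Bijective Φ := by
      constructor
      · rintro ⟨⟨a, ha⟩, ⟨w, hw⟩⟩ ⟨⟨b, hb⟩, ⟨w', hw'⟩⟩ heq
        have he' : a • w = b • w' := congrArg Subtype.val heq
        have hdw : (b⁻¹ * a) • w = w' := by rw [mul_smul, he', inv_smul_smul]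
        obtain ⟨d, hd⟩ : (b⁻¹ * a) ∈ zpowers z := mul_mem (inv_mem hb) ha
        change z ^ d = _ at hd
        have hdw' : (z ^ d)⁻¹ • w = w' := by
          rw [← invert_zpow he.1 hz, mul_smul, mul_smul, hmem w hw, hd, hdw, hmem w' hw']
        have ho : Odd (orderOf (z ^ d)) := hzo.of_dvd_nat (orderOf_dvd_of_pow_eq_one (by
          rw [← zpow_natCast, ← zpow_mul, mul_comm, zpow_mul, zpow_natCast, pow_orderOf_eq_one, one_zpow]))
        have hd2 : (z ^ d) ^ 2 = 1 := by
          by_contra hne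
          obtain ⟨j, hj⟩ := hw
          refine hw0 ((smul_eq_zero_iff_eq (j : H)).1 ?_)
          refine (congrArg id hj).trans (S.fpf ((z ^ d) ^ 2) hne (ho.of_dvd_nat (orderOf_pow_dvd 2))
            (isConj_inv_of_invert he.1 (invert_pow he.1 (invert_zpow he.1 hz d) 2)) w ?_)
          rw [sq, mul_smul, hd, hdw, ← hdw', hd, smul_inv_smul]
        have hd1 : z ^ d = 1 := eq_one_of_odd_el2 ho ⟨1, by rwa [pow_one]⟩
        rw [hd1] at hd
        obtain rfl := (inv_mul_eq_one.1 hd.symm).symm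
        rw [smul_left_cancel_iff] at he'
        subst he'
        rfl
      · rintro ⟨v, hv⟩
        obtain ⟨h, rfl⟩ := hv
        obtain ⟨i, c, hc, hvw⟩ := hcov (h • w₀) w₀ ⟨h⁻¹, inv_smul_smul h w₀⟩ hw₀
        exact ⟨(⟨z ^ i, i, rfl⟩, ⟨c • w₀, ⟨c, mem_centralizer_singleton_iff.2 hc.eq⟩, rfl⟩),
          Subtype.ext hvw.symm⟩
    exact (S.orbit_odd w₀).of_dvd_nat ⟨Nat.card (zpowers z), by
      rw [← Nat.card_eq_of_bijective Φ hbij, Nat.card_prod, mul_comm]⟩
  by_cases hcore : (⟨u, mem_centralizer_singleton_iff.2 hc.eq⟩ : J) ∈ Cfsg.pCore 2 J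
  · refine odd_fix (M := J) ((Cfsg.Lib.Components.isPGroup_pCore 2).map J.subtype) (map_subtype_le _) ?_ hodd u
      ⟨_, hcore, rfl⟩
    rintro m hm _ ⟨q, hq, rfl⟩
    exact ⟨⟨m, hm⟩ * q * ⟨m, hm⟩⁻¹, (inferInstance : (Cfsg.pCore 2 J).Normal).conj_mem q hq _, rfl⟩
  · obtain ⟨⟨x, hxJ⟩, hx1, hxo, hx⟩ := Cfsg.Agent.S3195.exists_inverted
      (a := (⟨u, mem_centralizer_singleton_iff.2 hc.eq⟩ : J)) (Subtype.ext hu.1) hcore
    exact (S.not_commute hu (by rwa [← Subgroup.orderOf_coe] at hxo) (fun h => hx1 (Subtype.ext h))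
      (congrArg Subtype.val hx) he (mem_centralizer_singleton_iff.1 hxJ).symm).elim

theorem fx_eq_of_commute (S : Spread H V) [Nontrivial V] {u e : H} (hu : Invol u) (he : Invol e)
    (hc : Commute u e) : fx V u = fx V e :=
  le_antisymm (S.fx_le_of_commute he hu hc.symm) (S.fx_le_of_commute hu he hc)

/-- Each Sylow `2`-subgroup has an involution in its centre. -/
theorem exists_central (S : Spread H V) (heven : 2 ∣ Nat.card H) (P : Sylow 2 H) :
    ∃ e ∈ (P : Subgroup H), Invol e ∧ ∀ g ∈ (P : Subgroup H), Commute g e := by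
  haveI := Fact.mk Nat.prime_two
  haveI : Nontrivial (P : Subgroup H) :=
    (nontrivial_iff_ne_bot _).2 (P.ne_bot_of_dvd_card heven)
  haveI := P.2.center_nontrivial
  obtain ⟨⟨c, hc⟩, hc1⟩ := exists_ne (1 : center (P : Subgroup H))
  obtain ⟨n, hn⟩ := exists_invol_pow (g := (c : H)) (el2_of_pgroup P.2 c.2)
    (fun h => hc1 (Subtype.ext (Subtype.ext h)))
  exact ⟨(c : H) ^ n, pow_mem c.2 n, hn, fun g hg =>
    (Commute.pow_right (congrArg Subtype.val (mem_center_iff.1 hc ⟨g, hg⟩)) n)⟩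

/-- Two fixed spaces sharing a non-zero vector are equal. -/
theorem fx_eq_of_mem (S : Spread H V) [Nontrivial V] (heven : 2 ∣ Nat.card H) {u u' : H} (hu : Invol u)
    (hu' : Invol u') {v : V} (hv : v ≠ 0) (h : v ∈ fx V u) (h' : v ∈ fx V u') : fx V u = fx V u' := by
  obtain ⟨P, -, hP⟩ := S.syl v hv
  obtain ⟨e, -, he, hce⟩ := S.exists_central heven P
  exact (S.fx_eq_of_commute hu he (hce u (hP u h hu.el2))).trans
    (S.fx_eq_of_commute hu' he (hce u' (hP u' h' hu'.el2))).symm

/-- Every vector is fixed by an involution. -/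
theorem exists_invol (S : Spread H V) (heven : 2 ∣ Nat.card H) {v : V} (hv : v ≠ 0) :
    ∃ u : H, Invol u ∧ v ∈ fx V u := by
  obtain ⟨P, hP, -⟩ := S.syl v hv
  obtain ⟨e, heP, he, -⟩ := S.exists_central heven P
  exact ⟨e, he, hP e heP⟩

/-- The image of the fixed space of an involution. -/
theorem fx_conj (u h : H) :
    (fx V u).map (DistribMulAction.toAddMonoidHom V h) = fx V (h * u * h⁻¹) := by
  ext v
  constructor
  · rintro ⟨w, hw, rfl⟩
    exact (smul_mem_fx_conj h).2 hw
  · intro hv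
    exact ⟨h⁻¹ • v, (smul_mem_fx_conj h).1 (by rwa [smul_inv_smul]), smul_inv_smul h v⟩

/-- All fixed spaces of involutions are conjugate. -/
theorem exists_conj (S : Spread H V) [Nontrivial V] (heven : 2 ∣ Nat.card H) {u u' : H} (hu : Invol u)
    (hu' : Invol u') : ∃ h : H, fx V (h * u * h⁻¹) = fx V u' := by
  haveI := Fact.mk Nat.prime_two
  obtain ⟨v, hv, hv0⟩ := S.fx_ne_zero hu
  obtain ⟨v', hv', hv0'⟩ := S.fx_ne_zero hu'
  obtain ⟨P, -, hP⟩ := S.syl v hv0
  obtain ⟨P', -, hP'⟩ := S.syl v' hv0'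
  obtain ⟨h, hh⟩ := exists_smul_eq H P P'
  obtain ⟨e, heP, he, hce⟩ := S.exists_central heven P
  have hh' : ∀ g : H, g ∈ (P' : Subgroup H) ↔ h⁻¹ * g * h ∈ (P : Subgroup H) := by
    intro g
    rw [← hh, Sylow.smul_def, Sylow.pointwise_smul_def, Subgroup.mem_pointwise_smul_iff_inv_smul_mem]
    simp [MulAut.smul_def]
  refine ⟨h, ?_⟩
  have h1 : fx V u = fx V e := S.fx_eq_of_commute hu he (hce u (hP u hv hu.el2))
  have h2 : fx V (h * e * h⁻¹) = fx V u' := by
    refine S.fx_eq_of_commute (he.conj h) hu' ?_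
    have h3 := (hce _ ((hh' u').1 (hP' u' hv' hu'.el2))).eq
    show h * e * h⁻¹ * u' = u' * (h * e * h⁻¹)
    calc h * e * h⁻¹ * u' = h * (e * (h⁻¹ * u' * h)) * h⁻¹ := by group
      _ = h * ((h⁻¹ * u' * h) * e) * h⁻¹ := by rw [← h3]
      _ = u' * (h * e * h⁻¹) := by group
  rw [← fx_conj, h1, fx_conj, h2]

/-- `g` maps each fixed space of an involution to itself. -/
def PreservesAll (V : Type*) [AddCommGroup V] [DistribMulAction H V] (g : H) : Prop :=
  ∀ a : H, Invol a → fx V (g * a * g⁻¹) = fx V a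

theorem fx_conj_mul (g h a : H) :
    fx V ((g * h) * a * (g * h)⁻¹) = (fx V (h * a * h⁻¹)).map (DistribMulAction.toAddMonoidHom V g) := by
  rw [fx_conj]
  congr 1
  group

theorem smul_mem_of_preserves {g a : H} (hga : fx V (g * a * g⁻¹) = fx V a) {v : V} (hv : v ∈ fx V a) :
    g • v ∈ fx V a := hga ▸ (smul_mem_fx_conj g).2 hv

/-- A real element of odd order preserving one fixed space preserves all. -/
theorem preservesAll_of_real (S : Spread H V) [Nontrivial V] (heven : 2 ∣ Nat.card H) {y u : H} (hy1 : y ≠ 1)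
    (hyo : Odd (orderOf y)) (hy : IsConj y y⁻¹) (hu : Invol u) (hyu : fx V (y * u * y⁻¹) = fx V u) :
    PreservesAll V y := by
  intro a ha
  obtain ⟨h, hh⟩ := S.exists_conj heven hu ha
  obtain ⟨w, hw, hw0⟩ := S.fx_ne_zero hu
  obtain ⟨c, hc, hcw⟩ := S.trans y hy1 hyo hy w h
  have h1 : fx V (c * u * c⁻¹) = fx V a := by
    rw [← hh]
    exact S.fx_eq_of_mem heven (hu.conj c) (hu.conj h)
      (fun e => hw0 ((smul_eq_zero_iff_eq c).1 e)) ((smul_mem_fx_conj c).2 hw)
      (hcw ▸ (smul_mem_fx_conj h).2 hw)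
  rw [← fx_conj, ← h1, fx_conj, show y * (c * u * c⁻¹) * y⁻¹ = (c * y) * u * (c * y)⁻¹ by rw [hc.eq]; group,
    fx_conj_mul, hyu, fx_conj]

/-- An involution preserves only its own fixed space. -/
theorem fx_eq_of_preserves (S : Spread H V) [Nontrivial V] (heven : 2 ∣ Nat.card H) {i a : H} (hi : Invol i)
    (ha : Invol a) (hia : fx V (i * a * i⁻¹) = fx V a) : fx V i = fx V a := by
  obtain ⟨x, hx, hx0⟩ := S.fx_ne_zero ha
  by_cases h : x + i • x = 0
  · exact S.fx_eq_of_mem heven hi ha hx0 (mem_fx.2 (by rwa [add_eq_zero_iff_eq_neg', S.neg_eq] at h)) hx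
  · exact S.fx_eq_of_mem heven hi ha h
      (mem_fx.2 (by rw [smul_add, ← mul_smul, hi.1, one_smul, add_comm]))
      (add_mem hx (smul_mem_of_preserves hia hx))

/-- There is a second fixed space. -/
theorem exists_other (S : Spread H V) [Nontrivial V] (heven : 2 ∣ Nat.card H) {u : H} (hu : Invol u) :
    ∃ a : H, Invol a ∧ fx V a ≠ fx V u := by
  obtain ⟨v, hv⟩ : ∃ v : V, v ∉ fx V u := by
    by_contra hall
    push Not at hall
    exact hu.2 (eq_of_smul_eq_smul (α := V) fun v => by rw [one_smul]; exact hall v)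
  obtain ⟨a, ha, hva⟩ := S.exists_invol heven (v := v) (fun e => hv (e ▸ zero_mem _))
  exact ⟨a, ha, fun e => hv (e ▸ hva)⟩

theorem preservesAll_one : PreservesAll V (1 : H) := fun a _ => by simp

theorem PreservesAll.mul {g h : H} (hg : PreservesAll V g) (hh : PreservesAll V h) :
    PreservesAll V (g * h) := fun a ha => by
  rw [fx_conj_mul, hh a ha, fx_conj, hg a ha]

theorem PreservesAll.inv {g : H} (hg : PreservesAll V g) : PreservesAll V g⁻¹ := fun a ha => by
  have h := hg a ha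
  rw [← fx_conj] at h
  conv_rhs => rw [show a = g⁻¹ * (g * a * g⁻¹) * g⁻¹⁻¹ by group, ← fx_conj, ← fx_conj, h]
  rw [fx_conj]

/-- Involutions commute with the elements preserving all fixed spaces. -/
theorem commute_of_preservesAll (S : Spread H V) [Nontrivial V] (heven : 2 ∣ Nat.card H) {i n : H}
    (hi : Invol i) (hn : PreservesAll V n) : Commute i n := by
  have hc : ∀ v : V, (i * n * i * n⁻¹) • v = v := by
    have hall : PreservesAll V (i * n * i * n⁻¹) := by
      refine PreservesAll.mul (fun a ha => ?_) hn.inv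
      have h1 := hn (i * a * i⁻¹) (hi.conj i |> fun _ => ha.conj i)
      rw [show i * n * i * a * (i * n * i)⁻¹ = i * (n * (i * a * i⁻¹) * n⁻¹) * i⁻¹ by rw [mul_inv_rev, mul_inv_rev, hi.inv]; group,
        ← fx_conj, h1, fx_conj, hi.inv, show i * (i * a * i) * i = (i * i) * a * (i * i) by group, hi.1, one_mul,
        mul_one]
    have hfix : ∀ v ∈ fx V i, (i * n * i * n⁻¹) • v = v := by
      intro v hv
      have h1 : n⁻¹ • v ∈ fx V i := smul_mem_of_preserves (hn.inv i hi) hv
      rw [mul_smul, mul_smul, mul_smul, mem_fx.1 h1, smul_inv_smul, mem_fx.1 hv]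
    intro x
    by_cases hx : x ∈ fx V i
    · exact hfix x hx
    obtain ⟨v, hv, hv0⟩ := S.fx_ne_zero hi
    set c := i * n * i * n⁻¹
    obtain ⟨b, hb, hxb⟩ := S.exists_invol heven (v := x) (fun e => hx (e ▸ zero_mem _))
    have hne : fx V b ≠ fx V i := fun e => hx (e ▸ hxb)
    have hw0 : v + x ≠ 0 := fun e => hx (by
      rw [add_eq_zero_iff_eq_neg', S.neg_eq] at e
      exact e ▸ hv)
    obtain ⟨d, hd, hwd⟩ := S.exists_invol heven hw0
    have hne' : fx V d ≠ fx V b := fun e => hv0 (by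
      by_contra hv0'
      refine hne (S.fx_eq_of_mem heven hb hi hv0' ?_ hv)
      have := sub_mem (e ▸ hwd) hxb
      simpa using this)
    have h1 : c • x - x ∈ fx V d := by
      have : c • (v + x) - (v + x) ∈ fx V d := sub_mem (smul_mem_of_preserves (hall d hd) hwd) hwd
      rwa [smul_add, hfix v hv, add_sub_add_left_eq_sub] at this
    have h2 : c • x - x ∈ fx V b := sub_mem (smul_mem_of_preserves (hall b hb) hxb) hxb
    by_contra hne2
    exact hne' (S.fx_eq_of_mem heven hd hb (sub_ne_zero.2 hne2) h1 h2)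
  have h1 : i * n * i * n⁻¹ = 1 := eq_of_smul_eq_smul (α := V) fun v => by rw [one_smul]; exact hc v
  rw [mul_inv_eq_one] at h1
  show i * n = n * i
  nth_rewrite 2 [← h1]
  rw [mul_assoc (i * n), hi.1, mul_one]

/-- An element of odd order inverted by an involution preserves no fixed space. -/
theorem not_preserves (S : Spread H V) [Nontrivial V] (heven : 2 ∣ Nat.card H) {u y a : H} (hu : Invol u)
    (hyo : Odd (orderOf y)) (hy1 : y ≠ 1) (hy : u * y * u = y⁻¹) (ha : Invol a)
    (hya : fx V (y * a * y⁻¹) = fx V a) : False :=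
  hy1 (eq_one_of_commute_invert hyo hu.1 (S.commute_of_preservesAll heven hu
    (S.preservesAll_of_real heven hy1 hyo (isConj_inv_of_invert hu.1 hy) ha hya)) hy)

/-- At most one involution interchanges two given fixed spaces. -/
theorem swap_unique (S : Spread H V) [Nontrivial V] (heven : 2 ∣ Nat.card H) {u v a : H} (hu : Invol u)
    (hv : Invol v) (ha : Invol a) (hua : fx V u ≠ fx V a)
    (h : fx V (u * a * u⁻¹) = fx V (v * a * v⁻¹)) : u = v := by
  set g := u * v with hg
  have hgmap : ∀ b : H, fx V (g * b * g⁻¹) = (fx V (v * b * v⁻¹)).map (DistribMulAction.toAddMonoidHom V u) :=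
    fun b => fx_conj_mul u v b
  have hga : fx V (g * a * g⁻¹) = fx V a := by
    rw [hgmap, ← h, fx_conj, hu.inv, show u * (u * a * u) * u = (u * u) * a * (u * u) by group, hu.1, one_mul,
      mul_one]
  have hgb : fx V (g * (u * a * u⁻¹) * g⁻¹) = fx V (u * a * u⁻¹) := by
    rw [hgmap, ← fx_conj (u * a * u⁻¹) v, h, fx_conj, hv.inv,
      show v * (v * a * v) * v = (v * v) * a * (v * v) by group, hv.1, one_mul, mul_one, fx_conj]
    rw [h, hv.inv]
  have hpow : ∀ (b : H) (n : ℕ), fx V (g * b * g⁻¹) = fx V b → fx V (g ^ n * b * (g ^ n)⁻¹) = fx V b := by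
    intro b n hb
    induction n with
    | zero => simp
    | succ n ih => rw [pow_succ, fx_conj_mul, hb, fx_conj, ih]
  have hinv : u * g * u = g⁻¹ := by rw [hg, mul_inv_rev, hu.inv, hv.inv, ← mul_assoc, hu.1, one_mul]
  obtain ⟨k, hk⟩ := exists_pow_odd g
  by_cases hf : g ^ 2 ^ k = 1
  · by_contra hne
    obtain ⟨n, hn⟩ := exists_invol_pow ⟨k, hf⟩ (fun e => hne (by rw [hg, mul_eq_one_iff_eq_inv, hv.inv] at e; exact e))
    have e1 := S.fx_eq_of_preserves heven hn ha (hpow a n hga)
    have e2 := S.fx_eq_of_preserves heven hn (ha.conj u) (hpow _ n hgb)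
    exact hua (S.fx_eq_of_preserves heven hu ha (e2.symm.trans e1))
  · exact (S.not_preserves heven hu hk hf (invert_pow hu.1 hinv _) ha (hpow a _ hga)).elim

/-- Distinct involutions have distinct fixed spaces. -/
theorem fx_injective (S : Spread H V) [Nontrivial V] (heven : 2 ∣ Nat.card H) {u v : H} (hu : Invol u)
    (hv : Invol v) (h : fx V u = fx V v) : u = v := by
  classical
  haveI := Fintype.ofFinite H
  set I : Finset H := Finset.univ.filter fun x => Invol x with hI
  set B : Finset (AddSubgroup V) := I.image fun x => fx V x with hB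
  have hmemI : ∀ {x : H}, x ∈ I ↔ Invol x := fun {x} => by rw [hI, Finset.mem_filter]; simp
  have hcard : (I.sigma fun x => B.erase (fx V x)).card ≤ B.offDiag.card := by
    refine Finset.card_le_card_of_injOn
      (fun p => (p.2, p.2.map (DistribMulAction.toAddMonoidHom V p.1))) ?_ ?_
    · intro p hp
      rw [Finset.mem_coe, Finset.mem_sigma, Finset.mem_erase, hB, Finset.mem_image] at hp
      obtain ⟨hp1, hp2, a, ha, hpa⟩ := hp
      rw [Finset.mem_coe, Finset.mem_offDiag, hB]
      refine ⟨Finset.mem_image.2 ⟨a, ha, hpa⟩, Finset.mem_image.2 ⟨p.1 * a * p.1⁻¹,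
        hmemI.2 ((hmemI.1 ha).conj _), ?_⟩, ?_⟩
      · show fx V (p.1 * a * p.1⁻¹) = _
        dsimp only
        rw [← hpa, fx_conj]
      · intro e
        dsimp only at e
        rw [← hpa, fx_conj] at e
        exact hp2 (hpa ▸ (S.fx_eq_of_preserves heven (hmemI.1 hp1) (hmemI.1 ha) e.symm).symm)
    · rintro ⟨x, b⟩ hxb ⟨x', b'⟩ hxb' he
      rw [Finset.mem_coe, Finset.mem_sigma, Finset.mem_erase, hB, Finset.mem_image] at hxb hxb'
      simp only [Prod.mk.injEq] at he
      obtain ⟨hx, hne, a, ha, rfl⟩ := hxb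
      obtain ⟨rfl, he2⟩ := he
      simp only [fx_conj] at he2
      obtain rfl := S.swap_unique heven (hmemI.1 hx) (hmemI.1 hxb'.1) (hmemI.1 ha) (fun e => hne e.symm) he2
      rfl
  rw [Finset.card_sigma, Finset.offDiag_card,
    Finset.sum_congr rfl (fun x hx => Finset.card_erase_of_mem (Finset.mem_image_of_mem _ hx)),
    Finset.sum_const, smul_eq_mul] at hcard
  obtain ⟨a, ha, hau⟩ := S.exists_other heven hu
  have h2 : 2 ≤ B.card := Finset.one_lt_card.2 ⟨fx V a, Finset.mem_image_of_mem _ (hmemI.2 ha), fx V u,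
    Finset.mem_image_of_mem _ (hmemI.2 hu), hau⟩
  have hle : I.card ≤ B.card := by
    refine Nat.le_of_mul_le_mul_right ?_ (show 0 < B.card - 1 by omega)
    rw [Nat.mul_sub_one B.card B.card]
    exact hcard
  have hinj : Set.InjOn (fun x => fx V x) (↑I : Set H) :=
    Finset.injOn_of_card_image_eq (s := I) (f := fun x => fx V x) (le_antisymm Finset.card_image_le hle)
  exact hinj (hmemI.2 hu) (hmemI.2 hv) h

/-- A product of two involutions has odd order. -/
theorem odd_mul (S : Spread H V) [Nontrivial V] (heven : 2 ∣ Nat.card H) {u v : H} (hu : Invol u)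
    (hv : Invol v) : Odd (orderOf (u * v)) := by
  by_contra h
  obtain ⟨m, hm⟩ := Nat.not_odd_iff_even.1 h
  have hm0 : 0 < m := by have := orderOf_pos (u * v); omega
  set i := (u * v) ^ m with hi
  have hinvol : Invol i := by
    refine ⟨by rw [hi, ← pow_add, ← hm, pow_orderOf_eq_one], fun e => ?_⟩
    have := orderOf_le_of_pow_eq_one hm0 (hi ▸ e)
    omega
  have hiu : u * i * u = i := by
    rw [hi, invert_pow hu.1 (by rw [mul_inv_rev, hu.inv, hv.inv, ← mul_assoc, hu.1, one_mul]) m, ← hi, hinvol.inv]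
  have hcu : Commute u i := by
    show u * i = i * u
    nth_rewrite 2 [← hiu]
    rw [mul_assoc (u * i), hu.1, mul_one]
  have hcv : Commute v i := by
    have h1 : Commute (u * v) i := hi ▸ (Commute.refl (u * v)).pow_right m
    have h2 : Commute (u * (u * v)) i := hcu.mul_left h1
    rwa [← mul_assoc, hu.1, one_mul] at h2
  have e := S.fx_injective heven hu hv
    ((S.fx_eq_of_commute hu hinvol hcu).trans (S.fx_eq_of_commute hv hinvol hcv).symm)
  rw [e, hv.1, orderOf_one] at h
  exact h odd_one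

/-- Any involution inverts any product of two involutions. -/
theorem invert_mul (S : Spread H V) [Nontrivial V] (heven : 2 ∣ Nat.card H) {u v w : H} (hu : Invol u)
    (hv : Invol v) (hw : Invol w) : w * (u * v) * w = (u * v)⁻¹ := by
  rcases eq_or_ne (u * v) 1 with e | e
  · rw [e, mul_one, hw.1, inv_one]
  have hinv : u * (u * v) * u = (u * v)⁻¹ := by rw [mul_inv_rev, hu.inv, hv.inv, ← mul_assoc, hu.1, one_mul]
  obtain ⟨h, hh⟩ := S.exists_conj heven hu hw
  obtain ⟨x, hx, hx0⟩ := S.fx_ne_zero hu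
  obtain ⟨c, hc, hcx⟩ := S.trans (u * v) e (S.odd_mul heven hu hv) (isConj_inv_of_invert hu.1 hinv) x h
  have h1 : c * u * c⁻¹ = w := S.fx_injective heven (hu.conj c) hw (by
    rw [← hh]
    exact S.fx_eq_of_mem heven (hu.conj c) (hu.conj h) (fun e => hx0 ((smul_eq_zero_iff_eq c).1 e))
      ((smul_mem_fx_conj c).2 hx) (hcx ▸ (smul_mem_fx_conj h).2 hx))
  rw [← h1]
  calc c * u * c⁻¹ * (u * v) * (c * u * c⁻¹) = c * u * (c⁻¹ * (u * v) * c) * u * c⁻¹ := by group
    _ = c * (u * (u * v) * u) * c⁻¹ := by rw [mul_assoc c⁻¹, ← hc.eq, inv_mul_cancel_left]; group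
    _ = c * (u * v)⁻¹ * c⁻¹ := by rw [hinv]
    _ = (u * v)⁻¹ := by rw [(hc.inv_right).eq, mul_inv_cancel_right]

/-- The abelian group `A` generated by the products of two involutions and the group `N` preserving every
fixed space. -/
theorem exists_parts (S : Spread H V) [Nontrivial V] (heven : 2 ∣ Nat.card H) {u : H} (hu : Invol u) :
    ∃ A N : Subgroup H, A.Normal ∧ N.Normal ∧ (∀ a ∈ A, ∀ b ∈ A, a * b = b * a) ∧
      (∀ a ∈ A, ∀ w : H, Invol w → w * a * w = a⁻¹) ∧ Odd (Nat.card A) ∧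
      (∀ a b : H, Invol a → Invol b → a * b ∈ A) ∧ (∀ n ∈ N, PreservesAll V n) ∧ Odd (Nat.card N) ∧
      (∀ h : H, ∃ a ∈ A, a⁻¹ * h ∈ centralizer ({u} : Set H)) ∧
      (∀ y : H, y ∈ centralizer ({u} : Set H) → Odd (orderOf y) → IsConj y y⁻¹ → y ∈ N) := by
  classical
  haveI := Fact.mk Nat.prime_two
  set D : Set H := {d | ∃ a b : H, Invol a ∧ Invol b ∧ d = a * b}
  set A : Subgroup H := closure D with hA
  have hDcomm : ∀ x ∈ D, ∀ y ∈ D, x * y = y * x := by
    rintro _ ⟨a, b, ha, hb, rfl⟩ _ ⟨a', b', ha', hb', rfl⟩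
    have h1 : a' * (a * b) * a' = (a * b)⁻¹ := S.invert_mul heven ha hb ha'
    have h2 : b' * (a * b) * b' = (a * b)⁻¹ := S.invert_mul heven ha hb hb'
    have h3 : a' * b' * (a * b) * (a' * b')⁻¹ = a * b := by
      calc a' * b' * (a * b) * (a' * b')⁻¹ = a' * (b' * (a * b) * b') * a' := by
            rw [mul_inv_rev, ha'.inv, hb'.inv]; group
        _ = (a' * (a * b) * a')⁻¹ := by rw [h2, mul_inv_rev _ a', mul_inv_rev a', ha'.inv]; group
        _ = a * b := by rw [h1, inv_inv]
    exact (mul_inv_eq_iff_eq_mul.1 h3).symm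
  haveI hAcomm : IsMulCommutative A := Subgroup.isMulCommutative_closure hDcomm
  haveI hAn : A.Normal := by
    refine ⟨fun a ha h => ?_⟩
    induction ha using closure_induction with
    | mem x hx =>
      obtain ⟨a, b, ha, hb, rfl⟩ := hx
      exact subset_closure ⟨h * a * h⁻¹, h * b * h⁻¹, ha.conj h, hb.conj h, by group⟩
    | one => simp
    | mul x y _ _ hx hy => rw [← conj_mul]; exact mul_mem hx hy
    | inv x _ hx => rw [← conj_inv]; exact inv_mem hx
  set J : Subgroup H := centralizer ({u} : Set H) with hJ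
  have hprod : ∀ h : H, ∃ a ∈ A, a⁻¹ * h ∈ J := by
    intro h
    obtain ⟨k, hk⟩ := odd_half (S.odd_mul heven (hu.conj h) hu)
    set g := (h * u * h⁻¹ * u) ^ k with hg
    refine ⟨g, pow_mem (Subgroup.subset_closure (show h * u * h⁻¹ * u ∈ D from ⟨h * u * h⁻¹, u, hu.conj h, hu, rfl⟩)) k, mem_centralizer_singleton_iff.2 ?_⟩
    have hgu : u * g * u = g⁻¹ := invert_pow hu.1
      (S.invert_mul heven (hu.conj h) hu hu) k
    have h2 : h * u * h⁻¹ = g * g * u := by rw [hk, mul_assoc _ u u, hu.1, mul_one]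
    have h3 : g * u * g⁻¹ = g * g * u := by
      rw [← hgu, show g * u * (u * g * u) = g * (u * u) * g * u by group, hu.1, mul_one]
    show g⁻¹ * h * u = u * (g⁻¹ * h)
    calc g⁻¹ * h * u = g⁻¹ * (h * u * h⁻¹) * h := by group
      _ = g⁻¹ * (g * u * g⁻¹) * h := by rw [h2, h3]
      _ = u * (g⁻¹ * h) := by group
  let N : Subgroup H :=
    { carrier := {g | PreservesAll V g}
      one_mem' := preservesAll_one
      mul_mem' := fun hg hh => hg.mul hh
      inv_mem' := fun hg => hg.inv }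
  haveI hNn : N.Normal := ⟨fun n hn h a ha => by
    have h1 : fx V (n * (h⁻¹ * a * h⁻¹⁻¹) * n⁻¹) = fx V (h⁻¹ * a * h⁻¹⁻¹) := hn _ (ha.conj _)
    rw [show h * n * h⁻¹ * a * (h * n * h⁻¹)⁻¹ = h * (n * (h⁻¹ * a * h⁻¹⁻¹) * n⁻¹) * h⁻¹ by group, ← fx_conj, h1,
      fx_conj]
    congr 1
    group⟩
  have hNodd : Odd (Nat.card N) := by
    rw [← Nat.not_even_iff_odd, even_iff_two_dvd]
    intro h2
    obtain ⟨i, hi⟩ := exists_prime_orderOf_dvd_card' 2 h2
    have hi' : Invol (i : H) := by
      refine ⟨?_, fun e => ?_⟩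
      · rw [← Subgroup.orderOf_coe] at hi; rw [← sq, ← hi]; exact pow_orderOf_eq_one _
      · rw [← Subgroup.orderOf_coe, e, orderOf_one] at hi; omega
    obtain ⟨a, ha, hai⟩ := S.exists_other heven hi'
    exact hai (S.fx_eq_of_preserves heven hi' ha (i.2 a ha)).symm
  have hAinv : ∀ a ∈ A, ∀ w : H, Invol w → w * a * w = a⁻¹ := by
    intro a ha w hw
    induction ha using closure_induction with
    | mem x hx =>
      obtain ⟨p, q, hp, hq, rfl⟩ := hx
      exact S.invert_mul heven hp hq hw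
    | one => rw [mul_one, hw.1, inv_one]
    | mul x y hx' hy' hx hy =>
      rw [show w * (x * y) * w = w * x * w * (w * y * w) by
        rw [show w * x * w * (w * y * w) = w * x * (w * w) * y * w by group, hw.1]; group, hx, hy, mul_inv_rev]
      exact congrArg Subtype.val (mul_comm' (⟨x, hx'⟩ : A)⁻¹ (⟨y, hy'⟩ : A)⁻¹)
    | inv x _ hx =>
      rw [show w * x⁻¹ * w = (w * x * w)⁻¹ by rw [mul_inv_rev, mul_inv_rev, hw.inv]; group, hx]
  have hAodd : Odd (Nat.card A) := by
    rw [← Nat.not_even_iff_odd, even_iff_two_dvd]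
    intro h2
    obtain ⟨i, hi⟩ := exists_prime_orderOf_dvd_card' 2 h2
    have hi' : Invol (i : H) := by
      refine ⟨?_, fun e => ?_⟩
      · rw [← Subgroup.orderOf_coe] at hi; rw [← sq, ← hi]; exact pow_orderOf_eq_one _
      · rw [← Subgroup.orderOf_coe, e, orderOf_one] at hi; omega
    -- an involution inverting `A` inverts itself: all involutions commute with it
    obtain ⟨f, hf1, hfo, hf⟩ := S.exists_inverted hi'
    have hw : Invol (f⁻¹ * (i : H) * f⁻¹⁻¹) := hi'.conj _
    have h1 := hAinv i i.2 _ hw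
    set w := f⁻¹ * (i : H) * f⁻¹⁻¹ with hwdef
    have h2 : Commute w (i : H) := by
      show w * (i : H) = i * w
      calc w * (i : H) = w * i * (w * w) := by rw [hw.1, mul_one]
        _ = (w * i * w) * w := by group
        _ = i * w := by rw [h1, hi'.inv]
    have h3 := S.fx_injective heven hw hi' (S.fx_eq_of_commute hw hi' h2)
    have h4 : Commute (i : H) f := by
      show (i : H) * f = f * i
      nth_rewrite 2 [← h3]
      rw [hwdef]
      group
    exact hf1 (eq_one_of_commute_invert hfo hi'.1 h4 hf)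
  refine ⟨A, N, hAn, hNn, fun a ha b hb => congrArg Subtype.val (mul_comm' (⟨a, ha⟩ : A) ⟨b, hb⟩), hAinv, hAodd,
    fun a b ha hb => Subgroup.subset_closure (show a * b ∈ D from ⟨a, b, ha, hb, rfl⟩), fun n hn => hn, hNodd,
    hprod, fun y hy hyo hyr => ?_⟩
  rcases eq_or_ne y 1 with rfl | hy1
  · exact one_mem _
  refine S.preservesAll_of_real heven hy1 hyo hyr hu ?_
  rw [mem_centralizer_singleton_iff.1 hy, mul_inv_cancel_right]

/-- **The configuration forces solvability.** -/
theorem isSolvable (S : Spread H V) [Nontrivial V] : Group.IsSolvable H := by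
  classical
  haveI := Fact.mk Nat.prime_two
  by_cases heven : 2 ∣ Nat.card H
  swap
  · exact Cfsg.Agent.PF.isSolvable_of_odd _ (by
      rw [← Nat.not_even_iff_odd, even_iff_two_dvd]; exact heven)
  obtain ⟨u, hu'⟩ := exists_prime_orderOf_dvd_card' 2 heven
  have hu : Invol u := ⟨by rw [← sq, ← hu']; exact pow_orderOf_eq_one u, fun e => by
    rw [e, orderOf_one] at hu'; omega⟩
  obtain ⟨A, N, hAn, hNn, hAc, -, -, -, -, hNodd, hprod, hNmem⟩ := S.exists_parts heven hu
  haveI := hAn
  haveI := hNn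
  set J : Subgroup H := centralizer ({u} : Set H) with hJ
  have hKodd : Odd (Nat.card (N.subgroupOf J)) := by
    refine hNodd.of_dvd_nat ?_
    rw [Nat.card_congr ((N.subgroupOf J).equivMapOfInjective _ J.subtype_injective).toEquiv]
    exact card_dvd_of_le (map_le_iff_le_comap.2 le_rfl)
  haveI : Group.IsSolvable (J ⧸ N.subgroupOf J) := by
    refine isSolvable_of_no_real _ fun x hx1 hxo hx => ?_
    obtain ⟨y, rfl, hy⟩ := exists_real_lift (QuotientGroup.mk' (N.subgroupOf J)) (QuotientGroup.mk'_surjective _)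
      (by rw [QuotientGroup.ker_mk']; exact hKodd) hx
    have hyo : Odd (orderOf (y : H)) := by
      rw [Subgroup.orderOf_coe]
      exact odd_orderOf_of_lift _ (by rw [QuotientGroup.ker_mk']; exact hKodd) hxo
    exact hx1 ((QuotientGroup.eq_one_iff y).2 (mem_subgroupOf.2 (hNmem y y.2 hyo (J.subtype.map_isConj hy))))
  haveI : Group.IsSolvable (N.subgroupOf J) := Cfsg.Agent.PF.isSolvable_of_odd _ hKodd
  haveI : Group.IsSolvable J :=
    solvable_of_ker_le_range (N.subgroupOf J).subtype (QuotientGroup.mk' (N.subgroupOf J)) (by simp)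
  haveI : Group.IsSolvable (H ⧸ A) := solvable_of_surjective
    (f := (QuotientGroup.mk' A).comp J.subtype) (fun x => by
      obtain ⟨h, rfl⟩ := QuotientGroup.mk'_surjective A x
      obtain ⟨a, ha, haJ⟩ := hprod h
      refine ⟨⟨_, haJ⟩, ?_⟩
      show QuotientGroup.mk' A (a⁻¹ * h) = QuotientGroup.mk' A h
      rw [map_mul, show QuotientGroup.mk' A a⁻¹ = 1 from (QuotientGroup.eq_one_iff _).2 (inv_mem ha), one_mul])
  haveI : Group.IsSolvable A := Group.isSolvable_of_comm fun a b => Subtype.ext (hAc a a.2 b b.2)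
  exact solvable_of_ker_le_range A.subtype (QuotientGroup.mk' A) (by simp)

end Cfsg.Lib.RealSize.Spread
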