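import Cfsg.Agent.RealSize.Basic
import Cfsg.Agent.Coprime.Hall
import Mathlib.GroupTheory.SchurZassenhaus

/-!
# A prime avoiding the subgroup generated by the two-elements
-/

set_option autoImplicit false
set_option linter.style.haveILetI false
set_option linter.unusedSectionVars false

namespace Cfsg.Lib.RealSize

open Subgroup

universe u

/-- The subgroup generated by the elements of two-power order. -/
def el2Closure (G : Type u) [Group G] : Subgroup G := closure {g : G | El2 g}

theorem el2Closure_map_le {G H : Type*} [Group G] [Group H] (f : G →* H) :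
    (closure {g : G | El2 g}).map f ≤ closure {g : H | El2 g} := by
  rw [MonoidHom.map_closure]
  refine closure_mono ?_
  rintro _ ⟨g, ⟨k, hk⟩, rfl⟩
  exact ⟨k, by rw [← map_pow, hk, map_one]⟩

theorem card_mul_relIndex {G : Type*} [Group G] (A B : Subgroup G) :
    Nat.card (A ⊓ B : Subgroup G) * A.relIndex B = Nat.card B := by
  rw [← Nat.card_congr (subgroupOfEquivOfLe (inf_le_right : A ⊓ B ≤ B)).toEquiv, inf_subgroupOf_right]
  exact (A.subgroupOf B).card_mul_index

theorem relIndex_sup_eq {G : Type*} [Group G] [Finite G] (Q N : Subgroup G) [N.Normal] :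
    Q.relIndex (Q ⊔ N) = Q.relIndex N := by
  have hI : 0 < Nat.card (Q ⊓ N : Subgroup G) := Nat.card_pos
  have h1 := card_mul_relIndex Q N
  have h2 := card_mul_relIndex N Q
  have h3 := card_mul_relIndex Q (Q ⊔ N)
  have h4 := card_mul_relIndex N (Q ⊔ N)
  rw [inf_eq_left.2 le_sup_left] at h3
  rw [inf_eq_left.2 le_sup_right, relIndex_sup_right] at h4
  rw [inf_comm] at h2
  have hr : 0 < N.relIndex Q := Nat.pos_of_ne_zero (index_ne_zero_of_finite (H := N.subgroupOf Q))
  rw [← h3, ← h1, ← h2] at h4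
  exact (Nat.eq_of_mul_eq_mul_left (Nat.mul_pos hI hr) (by rw [mul_right_comm]; exact h4)).symm

/-- If every two-element centralises a subgroup of `p'`-index in the solvable normal subgroup `M` of odd
order and `p` does not divide `|L : L ∩ M|`, then `p` does not divide `|L|`, for `L` generated by the
two-elements. -/
theorem not_dvd_el2Closure_aux {p : ℕ} (hp : p.Prime) (hp2 : p ≠ 2) (n : ℕ) :
    ∀ (G : Type u) [Group G] [Finite G], Nat.card G ≤ n → ∀ (M : Subgroup G) [M.Normal],
      Group.IsSolvable M → Odd (Nat.card M) →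
      (∀ s : G, El2 s → ∃ Q : Subgroup G, Q ≤ M ∧ ¬ p ∣ Q.relIndex M ∧ ∀ q ∈ Q, Commute q s) →
      ¬ p ∣ M.relIndex (el2Closure G) → ¬ p ∣ Nat.card (el2Closure G) := by
  induction n with
  | zero => intro G _ _ h; exact absurd (Nat.card_pos (α := G)) (by omega)
  | succ n ih =>
    intro G _ _ hn M _ hMsol hModd hfix hidx
    haveI := Fact.mk hp
    haveI := Fact.mk Nat.prime_two
    set L := el2Closure G with hL
    by_cases hM : M = ⊥
    · subst hM
      rwa [relIndex_bot_left] at hidx
    obtain ⟨N, hNM, hNn, hNb, hmin⟩ := Cfsg.Lib.Coprime.exists_minimal_normal (inferInstance : M.Normal) hM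
    haveI := hNn
    haveI hNsol : Group.IsSolvable N := Group.isSolvable_of_isSolvable_injective (inclusion_injective hNM)
    obtain ⟨hNc, r, hr, hNr, -⟩ := Cfsg.Lib.Coprime.minimal_normal_solvable hNsol hNb hmin
    have hNodd : Odd (Nat.card N) := hModd.of_dvd_nat (card_dvd_of_le hNM)
    set q := QuotientGroup.mk' N with hq
    have hqs : Function.Surjective q := QuotientGroup.mk'_surjective N
    haveI hMn' : (M.map q).Normal := (inferInstance : M.Normal).map q hqs
    have hlift : ∀ s : G ⧸ N, El2 s → ∃ g : G, El2 g ∧ q g = s := by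
      intro s ⟨k, hk⟩
      obtain ⟨g, rfl⟩ := hqs s
      obtain ⟨a, m, hm, ham⟩ := Nat.exists_eq_two_pow_mul_odd (n := orderOf g) (orderOf_pos g).ne'
      obtain ⟨j, hj⟩ := exists_pow_eq_self_of_coprime (x := q g) (n := m)
        ((Nat.Coprime.pow_right k (Nat.coprime_two_right.2 hm)).coprime_dvd_right (orderOf_dvd_of_pow_eq_one hk))
      exact ⟨(g ^ m) ^ j, ⟨a, by
        rw [← pow_mul, ← pow_mul, show m * (j * 2 ^ a) = 2 ^ a * m * j by ring, ← ham, pow_mul, pow_orderOf_eq_one,
          one_pow]⟩, by rw [map_pow, map_pow]; exact hj⟩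
    have hLq : el2Closure (G ⧸ N) = L.map q := by
      refine le_antisymm ((closure_le _).2 fun s hs => ?_) (el2Closure_map_le q)
      obtain ⟨g, hg, hgs⟩ := hlift s hs
      exact ⟨g, subset_closure hg, hgs⟩
    have hcard : Nat.card (G ⧸ N) ≤ n := by
      have h1 : 1 < Nat.card N := by
        haveI : Nontrivial N := (nontrivial_iff_ne_bot N).2 hNb
        exact Finite.one_lt_card
      have h2 := card_eq_card_quotient_mul_card_subgroup N
      have h3 : 0 < Nat.card (G ⧸ N) := Nat.card_pos
      nlinarith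
    have hIH : ¬ p ∣ Nat.card (L.map q) := by
      rw [← hLq]
      refine ih (G ⧸ N) hcard (M.map q) ?_ (hModd.of_dvd_nat (M.card_map_dvd q)) ?_ ?_
      · haveI := hMsol
        exact Group.isSolvable_of_surjective (f := (q.comp M.subtype).codRestrict (M.map q)
          fun x => ⟨x, x.2, rfl⟩) fun ⟨y, x, hx, hxy⟩ => ⟨⟨x, hx⟩, Subtype.ext hxy⟩
      · intro s hs
        obtain ⟨g, hg, rfl⟩ := hlift s hs
        obtain ⟨Q, hQM, hQi, hQc⟩ := hfix g hg
        refine ⟨Q.map q, map_mono hQM, fun hd => hQi (hd.trans ?_), ?_⟩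
        · rw [relIndex_map_map, hq, QuotientGroup.ker_mk', sup_eq_left.2 hNM]
          exact relIndex_dvd_of_le_left _ le_sup_left
        · rintro _ ⟨x, hx, rfl⟩
          exact (hQc x hx).map q
      · rw [hLq, relIndex_map_map, hq, QuotientGroup.ker_mk', sup_eq_left.2 hNM]
        exact fun hd => hidx (by
          have h1 : M.relIndex (L ⊔ N) = M.relIndex L := by
            conv_lhs => rw [← relIndex_sup_right]
            rw [sup_assoc, sup_eq_right.2 hNM, relIndex_sup_right]
          rwa [h1] at hd)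
    set NL : Subgroup G := N ⊓ L with hNL
    have hmul : Nat.card NL * Nat.card (L.map q) = Nat.card L := by
      have h1 : (q.comp L.subtype).range = L.map q := by rw [MonoidHom.range_comp, range_subtype]
      have h2 : (q.comp L.subtype).ker = N.subgroupOf L := by
        ext x
        rw [MonoidHom.mem_ker, mem_subgroupOf]
        exact QuotientGroup.eq_one_iff _
      rw [← h1, ← index_ker, h2, hNL, inf_comm,
        ← Nat.card_congr (subgroupOfEquivOfLe (inf_le_left : L ⊓ N ≤ L)).toEquiv, inf_subgroupOf_left]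
      exact (N.subgroupOf L).card_mul_index
    haveI := Fact.mk hr
    by_cases hrp : r = p
    swap
    · intro hd
      rw [← hmul] at hd
      refine ((Nat.Prime.dvd_mul hp).1 hd).elim (fun h => ?_) hIH
      obtain ⟨k, hk⟩ := (hNr.to_le (inf_le_left : NL ≤ N)).exists_card_eq
      rw [hk] at h
      exact hrp ((Nat.prime_dvd_prime_iff_eq hp hr).1 (hp.dvd_of_dvd_pow h)).symm
    subst hrp
    have hNcent : ∀ n ∈ N, ∀ x ∈ L, Commute n x := by
      intro n hn x hx
      induction hx using closure_induction with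
      | mem s hs =>
        obtain ⟨Q, hQM, hQi, hQc⟩ := hfix s hs
        refine hQc n ?_
        have h1 : Q.relIndex (Q ⊔ N) = Q.relIndex N := relIndex_sup_eq Q N
        have h2 : Q.relIndex N ∣ Q.relIndex M := by
          rw [← h1]; exact ⟨(Q ⊔ N).relIndex M, (relIndex_mul_relIndex Q (Q ⊔ N) M le_sup_left (sup_le hQM hNM)).symm⟩
        obtain ⟨k, hk⟩ : ∃ k, Q.relIndex N = r ^ k := by
          obtain ⟨a, ha⟩ := hNr.exists_card_eq
          obtain ⟨k, -, hk⟩ := (Nat.dvd_prime_pow hp).1 (ha ▸ relIndex_dvd_card Q N)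
          exact ⟨k, hk⟩
        have hk0 : k = 0 := by
          by_contra hk0
          exact hQi ((hk ▸ dvd_pow_self r hk0).trans h2)
        rw [hk0, pow_zero] at hk
        exact relIndex_eq_one.1 hk hn
      | one => exact Commute.one_right _
      | mul a b _ _ ha hb => exact ha.mul_right hb
      | inv a _ ha => exact ha.inv_right
    haveI : (N.subgroupOf L).Normal := inferInstance
    have hidxN : (N.subgroupOf L).index = Nat.card (L.map q) := by
      have h1 : Nat.card (N.subgroupOf L) = Nat.card NL := by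
        rw [hNL, inf_comm, ← Nat.card_congr (subgroupOfEquivOfLe (inf_le_left : L ⊓ N ≤ L)).toEquiv,
          inf_subgroupOf_left]
      refine Nat.eq_of_mul_eq_mul_left (Nat.card_pos (α := N.subgroupOf L)) ?_
      rw [(N.subgroupOf L).card_mul_index, h1, hmul]
    have hcop : (Nat.card (N.subgroupOf L)).Coprime (N.subgroupOf L).index := by
      obtain ⟨k, hk⟩ := (hNr.comap_subtype (K := L)).exists_card_eq
      rw [hidxN, subgroupOf, hk]
      exact Nat.Coprime.pow_left k ((Nat.Prime.coprime_iff_not_dvd hp).2 hIH)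
    obtain ⟨C, hC⟩ := Subgroup.exists_right_complement'_of_coprime hcop
    have hcomm : ∀ a ∈ N.subgroupOf L, ∀ b : L, a * b = b * a := fun a ha b =>
      Subtype.ext (hNcent _ (mem_subgroupOf.1 ha) _ b.2).eq
    haveI hCn : C.Normal := ⟨fun c hc g => by
      obtain ⟨⟨⟨a, ha⟩, ⟨b, hb⟩⟩, hab⟩ := hC.2 g
      have hab' : a * b = g := hab
      rw [← hab', show a * b * c * (a * b)⁻¹ = a * (b * c * b⁻¹) * a⁻¹ by group, hcomm a ha, mul_inv_cancel_right]
      exact mul_mem (mul_mem hb hc) (inv_mem hb)⟩
    have hCi : C.index = Nat.card (N.subgroupOf L) := hC.index_eq_card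
    have hCodd : Odd C.index := by
      rw [hCi]
      refine hNodd.of_dvd_nat ?_
      rw [Nat.card_congr ((N.subgroupOf L).equivMapOfInjective _ L.subtype_injective).toEquiv]
      exact card_dvd_of_le (map_le_iff_le_comap.2 le_rfl)
    have hLC : L ≤ C.map L.subtype := (closure_le _).2 fun s hs => by
      have hsL : s ∈ L := subset_closure hs
      obtain ⟨k, hk⟩ := hs
      refine ⟨⟨s, hsL⟩, ?_, rfl⟩
      obtain ⟨j, hj⟩ := exists_pow_eq_self_of_coprime (x := s) (n := C.index)
        ((Nat.Coprime.pow_right k (Nat.coprime_two_right.2 hCodd)).coprime_dvd_right (orderOf_dvd_of_pow_eq_one hk))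
      have h1 := pow_mem (C.pow_index_mem (⟨s, hsL⟩ : L)) j
      rwa [show ((⟨s, hsL⟩ : L) ^ C.index) ^ j = ⟨s, hsL⟩ from Subtype.ext (by push_cast; exact hj)] at h1
    have hCtop : C = ⊤ := eq_top_iff.2 fun x _ => by
      obtain ⟨c, hc, hcx⟩ := hLC x.2
      rw [show x = c from Subtype.ext hcx.symm]; exact hc
    rw [hCtop, index_top] at hCi
    intro hd
    rw [← (N.subgroupOf L).card_mul_index, ← hCi, one_mul, hidxN] at hd
    exact hIH hd

theorem not_dvd_el2Closure {G : Type u} [Group G] [Finite G] {p : ℕ} (hp : p.Prime) (hp2 : p ≠ 2)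
    (M : Subgroup G) [M.Normal] (hsol : Group.IsSolvable M) (hodd : Odd (Nat.card M))
    (hfix : ∀ s : G, El2 s → ∃ Q : Subgroup G, Q ≤ M ∧ ¬ p ∣ Q.relIndex M ∧ ∀ q ∈ Q, Commute q s)
    (hidx : ¬ p ∣ M.relIndex (el2Closure G)) : ¬ p ∣ Nat.card (el2Closure G) :=
  not_dvd_el2Closure_aux hp hp2 (Nat.card G) G le_rfl M hsol hodd hfix hidx

end Cfsg.Lib.RealSize
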