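import Cfsg.Agent.RealSize.Blocks

/-!
# Odd primes of the subgroup generated by the two-elements
-/

set_option autoImplicit false
set_option linter.style.haveILetI false
set_option linter.unusedSectionVars false

namespace Cfsg.Lib.RealSize.Spread

open Subgroup MulAction

variable {H V : Type*} [Group H] [Finite H] [AddCommGroup V] [Finite V] [DistribMulAction H V]
  [FaithfulSMul H V]

/-- A group acting freely on an orbit has order dividing its size. -/
theorem card_dvd_orbit (Y : Subgroup H) {v : V} (hv : v ≠ 0)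
    (hfree : ∀ y ∈ Y, ∀ w : V, w ≠ 0 → y • w = w → y = 1) : Nat.card Y ∣ Nat.card (orbit H v) :=
  Cfsg.Lib.PGroups.card_dvd_of_free (A := Y) (X := orbit H v) fun y w hw => by
    obtain ⟨⟨w, hwo⟩, rfl⟩ : ∃ w' : orbit H v, w' = w := ⟨w, rfl⟩
    refine Subtype.ext (hfree y y.2 w (fun e => hv ?_) (congrArg Subtype.val hw))
    obtain ⟨h, hh⟩ := hwo
    exact (smul_eq_zero_iff_eq h).1 (hh.trans e)

/-- An element preserving every fixed space fixes no non-zero vector. -/
theorem preserves_fpf (S : Spread H V) [Nontrivial V] (heven : 2 ∣ Nat.card H) {u : H} (hu : Invol u) {n : H}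
    (hn : PreservesAll V n) {v : V} (hv : v ≠ 0) (hnv : n • v = v) : n = 1 := by
  classical
  obtain ⟨f, hf1, hfo, hf⟩ := S.exists_inverted hu
  obtain ⟨z, hz1, hzo, hz, -, hcov⟩ := S.exists_cover hu hfo hf1 hf
  have hord := S.orderOf_cover hu hzo hz hcov
  have hnz : Commute n z := by
    refine Cfsg.Agent.S3195.commute_of_sq hzo ?_
    have h1 : z * z = (z * u * z⁻¹) * u := by
      rw [show z * u * z⁻¹ * u = z * (u * z⁻¹ * u) by group,
        show u * z⁻¹ * u = (u * z * u)⁻¹ by rw [mul_inv_rev, mul_inv_rev, hu.inv]; group, hz, inv_inv]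
    rw [h1]
    exact ((S.commute_of_preservesAll heven (hu.conj z) hn).symm).mul_right
      (S.commute_of_preservesAll heven hu hn).symm
  by_contra hn1
  set F : AddSubgroup V := fx V n with hF
  have hFne : 1 < Nat.card F := by
    haveI : Nontrivial F := ⟨⟨⟨v, hnv⟩, 0, fun e => hv (congrArg Subtype.val e)⟩⟩
    exact Finite.one_lt_card
  have hFtop : 1 < F.index := by
    by_contra h
    have h1 : F.index = 1 := by
      have := AddSubgroup.index_ne_zero_of_finite (H := F)
      omega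
    exact hn1 (eq_of_smul_eq_smul (α := V) fun w => by
      rw [one_smul]; exact mem_fx.1 ((AddSubgroup.index_eq_one.1 h1) ▸ AddSubgroup.mem_top w : w ∈ F))
  have hinvF : ∀ a ∈ zpowers z, ∀ w : V, a • w ∈ F ↔ w ∈ F := by
    intro a ha w
    obtain ⟨i, rfl⟩ := ha
    exact ⟨fun h => by
      simpa using smul_mem_fx_of_commute (h := (z ^ i)⁻¹) (hnz.zpow_right i).inv_right.symm h,
      fun h => smul_mem_fx_of_commute (hnz.zpow_right i).symm h⟩
  have hfree : ∀ a ∈ zpowers z, ∀ w : V, w ≠ 0 → a • w = w → a = 1 := by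
    intro a ha w hw haw
    by_contra hne
    obtain ⟨i, rfl⟩ := ha
    exact hw (S.fpf _ hne (hzo.of_dvd_nat (by
      rw [← Nat.card_zpowers z]; exact orderOf_dvd_natCard _ ⟨i, rfl⟩))
      (isConj_inv_of_invert hu.1 (invert_zpow hu.1 hz i)) w haw)
  have hdvd : ∀ P : V → Prop, (∀ a ∈ zpowers z, ∀ w, P w → P (a • w)) → (∀ w, P w → w ≠ 0) →
      orderOf z ∣ Nat.card {w : V // P w} := by
    intro P hP hP0
    rw [← Nat.card_zpowers]
    letI : MulAction (zpowers z) {w : V // P w} :=
      { smul := fun a w => ⟨(a : H) • w.1, hP a a.2 w.1 w.2⟩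
        one_smul := fun w => Subtype.ext (one_smul H w.1)
        mul_smul := fun a b w => Subtype.ext (mul_smul (a : H) (b : H) w.1) }
    exact Cfsg.Lib.PGroups.card_dvd_of_free fun a w haw =>
      Subtype.ext (hfree a a.2 w.1 (hP0 _ w.2) (congrArg Subtype.val haw))
  haveI := Fintype.ofFinite V
  have hd1 : orderOf z ∣ Nat.card F - 1 := by
    refine (hdvd (fun w => w ∈ F ∧ w ≠ 0) (fun a ha w hw => ⟨(hinvF a ha w).2 hw.1,
      fun e => hw.2 ((smul_eq_zero_iff_eq a).1 e)⟩) fun w hw => hw.2).trans (dvd_of_eq ?_)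
    have h1 := card_ne_zero_add_one F
    have h2 : Nat.card {w : V // w ∈ F ∧ w ≠ 0} = Nat.card {w : F // w ≠ 0} :=
      Nat.card_congr ((Equiv.subtypeSubtypeEquivSubtypeInter (fun w => w ∈ F) (fun w => w ≠ 0)).symm.trans
        (Equiv.subtypeEquivRight fun w => by simp))
    omega
  have hd2 : orderOf z ∣ Nat.card F * (F.index - 1) := by
    refine (hdvd (fun w => w ∉ F) (fun a ha w hw => fun e => hw ((hinvF a ha w).1 e))
      fun w hw e => hw (e ▸ zero_mem _)).trans (dvd_of_eq ?_)
    haveI : Fintype F := Fintype.ofFinite F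
    rw [Nat.card_eq_fintype_card, Fintype.card_subtype_compl]
    have h1 : Fintype.card V = Nat.card F * F.index := by
      rw [← Nat.card_eq_fintype_card]; exact F.card_mul_index.symm
    rw [h1, Nat.mul_sub_one (Nat.card F) F.index, Nat.card_eq_fintype_card (α := F)]
  have hcop : (orderOf z).Coprime (Nat.card F) := by
    have h2 : IsPGroup 2 (Multiplicative F) := fun w => ⟨1, by
      rw [pow_one, sq]; exact Subtype.ext (S.h2 (w.toAdd : V))⟩
    haveI := Fact.mk Nat.prime_two
    obtain ⟨k, hk⟩ := h2.exists_card_eq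
    rw [Nat.card_congr (Multiplicative.toAdd)] at hk
    rw [hk]
    exact Nat.Coprime.pow_right k (Nat.coprime_two_right.2 hzo)
  have hd3 := hcop.dvd_of_dvd_mul_left hd2
  have hl1 := Nat.le_of_dvd (by omega) hd1
  have hl2 := Nat.le_of_dvd (by omega) hd3
  rw [hord] at hl1 hl2
  have hprod : Nat.card F * F.index = Nat.card (fx V u) * Nat.card (fx V u) :=
    F.card_mul_index.trans (S.card_fx hu).symm
  nlinarith [Nat.sub_add_cancel hFne.le, Nat.sub_add_cancel hFtop.le]

/-- An odd prime dividing no orbit size does not divide the order of the group generated by the two-elements. -/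
theorem not_dvd_card_el2 (S : Spread H V) [Nontrivial V] {p : ℕ} (hp : p.Prime) (hp2 : p ≠ 2)
    (horb : ∀ v : V, ¬ p ∣ Nat.card (orbit H v)) :
    ¬ p ∣ Nat.card (closure {h : H | El2 h}) := by
  classical
  haveI := Fact.mk Nat.prime_two
  by_cases heven : 2 ∣ Nat.card H
  swap
  · have : closure {h : H | El2 h} = ⊥ := (eq_bot_iff).2 ((closure_le _).2 fun h hh => mem_bot.2
      (eq_one_of_odd_el2 ((Nat.not_even_iff_odd.1 fun e => heven (even_iff_two_dvd.1 e)).of_dvd_nat
        (orderOf_dvd_natCard h)) hh))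
    rw [this, card_bot]
    exact fun h => hp.ne_one (Nat.dvd_one.1 h)
  obtain ⟨u, hu'⟩ := exists_prime_orderOf_dvd_card' 2 heven
  have hu : Invol u := ⟨by rw [← sq, ← hu']; exact pow_orderOf_eq_one u, fun e => by
    rw [e, orderOf_one] at hu'; omega⟩
  obtain ⟨A, N, hAn, hNn, hAc, hAinv, hAodd, -, hNpres, hNodd, hprod, hNmem⟩ := S.exists_parts heven hu
  haveI := hAn
  haveI := hNn
  obtain ⟨v0, hv0⟩ := exists_ne (0 : V)
  have hA : ¬ p ∣ Nat.card A := fun h => horb v0 (h.trans (card_dvd_orbit A hv0 fun y hy w hw hyw => by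
    by_contra hne
    exact hw (S.fpf y hne (hAodd.of_dvd_nat (orderOf_dvd_natCard A hy))
      (isConj_inv_of_invert hu.1 (hAinv y hy u hu)) w hyw)))
  have hN : ¬ p ∣ Nat.card N := fun h => horb v0 (h.trans (card_dvd_orbit N hv0 fun y hy w hw hyw =>
    S.preserves_fpf heven hu (hNpres y hy) hw hyw))
  set X : Subgroup H := A ⊔ N with hX
  have hXp : ¬ p ∣ Nat.card X := fun h =>
    ((Nat.Prime.dvd_mul hp).1 (h.trans (Cfsg.Lib.Components.card_sup_dvd_mul A N))).elim hA hN
  set J : Subgroup H := centralizer ({u} : Set H) with hJ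
  have hKodd : Odd (Nat.card (N.subgroupOf J)) := by
    refine hNodd.of_dvd_nat ?_
    rw [Nat.card_congr ((N.subgroupOf J).equivMapOfInjective _ J.subtype_injective).toEquiv]
    exact card_dvd_of_le (map_le_iff_le_comap.2 le_rfl)
  let P : Sylow 2 (J ⧸ N.subgroupOf J) := default
  haveI hPn : (P : Subgroup (J ⧸ N.subgroupOf J)).Normal := (Cfsg.Agent.S3861.result P).1 (by
    intro x hx1 hxo hx
    obtain ⟨y, rfl, hy⟩ := exists_real_lift (QuotientGroup.mk' (N.subgroupOf J)) (QuotientGroup.mk'_surjective _)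
      (by rw [QuotientGroup.ker_mk']; exact hKodd) hx
    refine hx1 ((QuotientGroup.eq_one_iff y).2 (mem_subgroupOf.2 (hNmem y y.2 ?_ (J.subtype.map_isConj hy))))
    rw [Subgroup.orderOf_coe]
    exact odd_orderOf_of_lift _ (by rw [QuotientGroup.ker_mk']; exact hKodd) hxo)
  let ψ : J ⧸ N.subgroupOf J →* H ⧸ X := QuotientGroup.map _ X J.subtype
    (fun x hx => (le_sup_right : N ≤ X) (mem_subgroupOf.1 hx))
  have hψ : Function.Surjective ψ := fun x => by
    obtain ⟨h, rfl⟩ := QuotientGroup.mk'_surjective X x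
    obtain ⟨a, ha, haJ⟩ := hprod h
    refine ⟨(⟨_, haJ⟩ : J), ?_⟩
    show QuotientGroup.mk' X (a⁻¹ * h) = QuotientGroup.mk' X h
    rw [map_mul, show QuotientGroup.mk' X a⁻¹ = 1 from
      (QuotientGroup.eq_one_iff _).2 (inv_mem ((le_sup_left : A ≤ X) ha)), one_mul]
  let P' : Sylow 2 (H ⧸ X) := P.mapSurjective hψ
  haveI : (P' : Subgroup (H ⧸ X)).Normal := by
    rw [Sylow.coe_mapSurjective]; exact hPn.map ψ hψ
  haveI := Sylow.unique_of_normal P' inferInstance
  have hle : closure {h : H | El2 h} ≤ (P' : Subgroup (H ⧸ X)).comap (QuotientGroup.mk' X) := by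
    refine (closure_le _).2 fun h ⟨k, hk⟩ => ?_
    obtain ⟨j, -, hj⟩ := (Nat.dvd_prime_pow Nat.prime_two).1 (orderOf_dvd_of_pow_eq_one
      (show (QuotientGroup.mk' X h) ^ 2 ^ k = 1 by rw [← map_pow, hk, map_one]))
    obtain ⟨R, hR⟩ := (IsPGroup.of_card (n := j) (by rw [Nat.card_zpowers, hj]) :
      IsPGroup 2 (zpowers (QuotientGroup.mk' X h))).exists_le_sylow
    rw [Subsingleton.elim R P'] at hR
    exact mem_comap.2 (hR (mem_zpowers _))
  intro hdvd
  have h1 := hdvd.trans (card_dvd_of_le hle)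
  have h2 : Nat.card ((P' : Subgroup (H ⧸ X)).comap (QuotientGroup.mk' X)) =
      Nat.card (P' : Subgroup (H ⧸ X)) * Nat.card X := by
    set C := (P' : Subgroup (H ⧸ X)).comap (QuotientGroup.mk' X) with hC
    have e1 : C.index = (P' : Subgroup (H ⧸ X)).index :=
      index_comap_of_surjective _ (QuotientGroup.mk'_surjective X)
    refine Nat.eq_of_mul_eq_mul_right (Nat.pos_of_ne_zero (index_ne_zero_of_finite (H := C))) ?_
    rw [C.card_mul_index, e1, mul_assoc, mul_comm (Nat.card X), ← mul_assoc,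
      (P' : Subgroup (H ⧸ X)).card_mul_index, card_eq_card_quotient_mul_card_subgroup X]
  rw [h2] at h1
  obtain ⟨j, hj⟩ := P'.2.exists_card_eq
  rcases (Nat.Prime.dvd_mul hp).1 h1 with h | h
  · rw [hj] at h
    exact hp2 ((Nat.prime_dvd_prime_iff_eq hp Nat.prime_two).1 (hp.dvd_of_dvd_pow h))
  · exact hXp h

end Cfsg.Lib.RealSize.Spread
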