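import Cfsg.Agent.RealSize.Lift

/-!
# Lifting real elements of odd order through a `2`-group
-/

set_option autoImplicit false
set_option linter.style.haveILetI false
set_option linter.unusedSectionVars false

namespace Cfsg.Lib.RealSize

open Subgroup

/-- A real element of odd order of a quotient by a normal `2`-subgroup has a real preimage of odd order. -/
theorem exists_real_odd_lift {G : Type*} [Group G] [Finite G] (N : Subgroup G) [hN : N.Normal]
    (hNp : IsPGroup 2 N) {x : G ⧸ N} (hxodd : Odd (orderOf x)) (hx : IsConj x x⁻¹) :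
    ∃ z : G, QuotientGroup.mk' N z = x ∧ Odd (orderOf z) ∧ IsConj z z⁻¹ := by
  haveI := Fact.mk Nat.prime_two
  obtain ⟨t, hxt⟩ := isConj_iff.1 hx
  obtain ⟨y, rfl⟩ := QuotientGroup.mk'_surjective N x
  obtain ⟨τ, rfl⟩ := QuotientGroup.mk'_surjective N t
  obtain ⟨a, m, hm, ham⟩ := Nat.exists_eq_two_pow_mul_odd (n := orderOf y) (orderOf_pos y).ne'
  set φ := QuotientGroup.mk' N
  have hcop : (orderOf (φ y)).Coprime (2 ^ a) := Nat.Coprime.pow_right a (Nat.coprime_two_right.2 hxodd)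
  obtain ⟨i, hi⟩ := exists_pow_eq_self_of_coprime hcop.symm
  set z := (y ^ (2 ^ a)) ^ i with hz
  have hzx : φ z = φ y := by rw [hz, map_pow, map_pow, hi]
  have hzodd : Odd (orderOf z) := by
    refine Odd.of_dvd_nat ?_ (orderOf_pow_dvd i)
    rw [orderOf_pow_of_dvd (pow_ne_zero _ two_ne_zero) (ham ▸ dvd_mul_right _ _), ham,
      Nat.mul_div_cancel_left _ (pow_pos (by norm_num) a)]
    exact hm
  set H := Subgroup.zpowers z
  have hcN : (Nat.card N).Coprime (Nat.card H) := by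
    obtain ⟨k, hk⟩ := hNp.exists_card_eq
    rw [hk, Nat.card_zpowers]
    exact Nat.Coprime.pow_left k (Nat.coprime_two_left.2 hzodd)
  haveI : Group.IsNilpotent N := hNp.isNilpotent
  have hrel : τ * z * τ⁻¹ * z ∈ N := by
    refine (QuotientGroup.eq_one_iff _).1 ?_
    show φ (τ * z * τ⁻¹ * z) = 1
    simp only [map_mul, map_inv, hzx, hxt, inv_mul_cancel]
  obtain ⟨n, hn, hK⟩ := Cfsg.Lib.Coprime.exists_conj_eq_of_solvable_left (N := N) (H := H)
    (K := H.map (MulAut.conj τ).toMonoidHom) (by rw [Subgroup.normalizer_eq_top_iff.2 hN]; exact le_top)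
    hcN inferInstance (by
      rw [MonoidHom.map_zpowers, Subgroup.zpowers_le]
      show τ * z * τ⁻¹ ∈ N ⊔ H
      rw [show τ * z * τ⁻¹ = (τ * z * τ⁻¹ * z) * z⁻¹ by group]
      exact mul_mem (Subgroup.mem_sup_left hrel) (Subgroup.mem_sup_right (inv_mem (Subgroup.mem_zpowers z))))
    (Subgroup.card_map_of_injective (MulEquiv.injective _))
  have h1 : τ * z * τ⁻¹ ∈ Cfsg.Lib.Coprime.conjMap n H := hK ▸ ⟨z, Subgroup.mem_zpowers z, rfl⟩
  obtain ⟨w, hw, hwe⟩ := h1
  have hwe' : n * w * n⁻¹ = τ * z * τ⁻¹ := hwe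
  have hwN : w * z ∈ N := by
    refine (QuotientGroup.eq_one_iff _).1 ?_
    show φ (w * z) = 1
    have := congrArg φ hwe'
    simp only [map_mul, map_inv, show φ n = 1 from (QuotientGroup.eq_one_iff n).2 hn, one_mul, inv_one,
      mul_one] at this
    rw [map_mul, this]
    simp only [hzx, hxt, inv_mul_cancel]
  have hw1 : w * z = 1 := Subgroup.mem_bot.1
    ((Subgroup.inf_eq_bot_of_coprime hcN).le ⟨hwN, mul_mem hw (Subgroup.mem_zpowers z)⟩)
  refine ⟨z, hzx, hzodd, isConj_iff.2 ⟨n⁻¹ * τ, ?_⟩⟩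
  rw [← eq_inv_of_mul_eq_one_left hw1]
  calc n⁻¹ * τ * z * (n⁻¹ * τ)⁻¹ = n⁻¹ * (τ * z * τ⁻¹) * n := by group
    _ = w := by rw [← hwe']; group

end Cfsg.Lib.RealSize
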