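import Cfsg.Agent.RealSize.Blocks
import Cfsg.Agent.RealSize.Kernel
import Cfsg.Agent.RealSize.CentralFactors
import Cfsg.Agent.RealSize.Lift2
import Cfsg.Agent.ClassSize.Basic
import Cfsg.Agent.S4195

/-!
# Real classes split by a set of primes: the group without odd core

The products of two conjugates of an involution with a class of `π`-size span a module on which the
configuration of `Spread` holds.
-/

set_option autoImplicit false
set_option linter.style.haveILetI false
set_option linter.unusedSectionVars false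

namespace Cfsg.Lib.RealSize

open Subgroup Cfsg.Lib.ClassSize

universe u

variable {G : Type u} [Group G] [Finite G]

/-- Every prime dividing the class size lies in `π`. -/
def PiSize (π : Set ℕ) (x : G) : Prop := ∀ q : ℕ, q.Prime → q ∣ cs x → q ∈ π

/-- No prime dividing the class size lies in `π`. -/
def PiSize' (π : Set ℕ) (x : G) : Prop := ∀ q : ℕ, q.Prime → q ∣ cs x → q ∉ π

/-- The class size of each real element is a `π`-number or a `π'`-number. -/
structure Split (G : Type u) [Group G] (π : Set ℕ) : Prop where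
  two : 2 ∉ π
  pure : ∀ x : G, IsConj x x⁻¹ → PiSize π x ∨ PiSize' π x

theorem coprime_of_pi {π : Set ℕ} {a b : G} (ha : PiSize π a) (hb : PiSize' π b) : (cs a).Coprime (cs b) :=
  Nat.coprime_of_dvd fun q hq h1 h2 => hb q hq h2 (ha q hq h1)

theorem odd_of_pi {π : Set ℕ} (h2 : 2 ∉ π) {a : G} (ha : PiSize π a) : Odd (cs a) := by
  rw [← Nat.not_even_iff_odd, even_iff_two_dvd]
  exact fun h => h2 (ha 2 Nat.prime_two h)

theorem ne_one_of_odd {x : G} (hx : x ≠ 1) (ho : Odd (orderOf x)) : x * x ≠ 1 := fun h =>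
  hx (eq_one_of_odd_el2 ho ⟨1, by rwa [pow_one, sq]⟩)

/-- The class of a real element that is no involution has even size. -/
theorem two_dvd_cs {x : G} (hx : IsConj x x⁻¹) (hx2 : x * x ≠ 1) : 2 ∣ cs x := by
  haveI := Fact.mk Nat.prime_two
  by_contra h
  set C := centralizer ({x} : Set G)
  let P : Sylow 2 C := default
  have hnd : ¬ 2 ∣ ((P : Subgroup C).map C.subtype).index := by
    rw [index_map_subtype]
    exact fun hd => ((Nat.prime_two.dvd_mul).1 hd).elim P.not_dvd_index h
  have := Cfsg.Agent.S4195.result x (fun e => hx2 (by rw [e, one_mul])) ((P.2.map C.subtype).toSylow hnd)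
    (fun g hg => map_subtype_le _ hg) hx
  exact hx2 (by rw [← sq, ← this, pow_orderOf_eq_one])

theorem pi'_of_real {π : Set ℕ} (S : Split G π) {x : G} (hx : IsConj x x⁻¹) (hx2 : x * x ≠ 1) :
    PiSize' π x :=
  (S.pure x hx).resolve_left fun h => S.two (h 2 Nat.prime_two (two_dvd_cs hx hx2))

theorem isConj_self_inv {x : G} (hx : x * x = 1) : IsConj x x⁻¹ := by
  rw [inv_eq_of_mul_eq_one_right hx]

/-- The centraliser of an involution with non-trivial class of `π`-size is two-closed. -/
theorem two_closed {π : Set ℕ} (S : Split G π) {t : G} (ht : t * t = 1) (ht1 : cs t ≠ 1)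
    (htπ : PiSize π t) : Group.IsSolvable (centralizer ({t} : Set G)) ∧
    ∃ P : Sylow 2 G, (∀ g ∈ (P : Subgroup G), Commute g t) ∧ ∀ g : G, Commute g t → El2 g → g ∈ (P : Subgroup G) := by
  haveI := Fact.mk Nat.prime_two
  obtain ⟨q, hq, hqd⟩ := Nat.exists_prime_and_dvd ht1
  set C := centralizer ({t} : Set G) with hC
  have hno : ∀ y : C, y ≠ 1 → Odd (orderOf y) → ¬ IsConj y y⁻¹ := by
    intro y hy1 hyo hy
    obtain ⟨c, hc⟩ := isConj_iff.1 hy
    have hyt : Commute (y : G) t := mem_cent.1 y.2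
    have hy' : (y : G) ≠ 1 := fun e => hy1 (Subtype.ext e)
    have hyo' : Odd (orderOf (y : G)) := by rwa [Subgroup.orderOf_coe]
    have hreal : IsConj (t * y) (t * (y : G))⁻¹ := by
      refine isConj_iff.2 ⟨c, ?_⟩
      rw [mul_inv_rev, inv_eq_of_mul_eq_one_right ht]
      calc (c : G) * (t * y) * (c : G)⁻¹ = ((c : G) * t * (c : G)⁻¹) * ((c : G) * y * (c : G)⁻¹) := by group
        _ = t * (y : G)⁻¹ := by
            rw [(mem_cent.1 c.2).eq, mul_inv_cancel_right]
            exact congrArg (t * ·) (congrArg Subtype.val hc)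
        _ = (y : G)⁻¹ * t := hyt.symm.inv_right.eq
    have hsq : t * (y : G) * (t * y) ≠ 1 := by
      rw [← sq, hyt.symm.mul_pow, sq, ht, one_mul, sq]
      exact ne_one_of_odd hy' hyo'
    have hle : centralizer ({t * (y : G)} : Set G) ≤ C := by
      rw [cent_mul_of_coprime hyt.symm]
      · exact inf_le_left
      · exact (Nat.coprime_two_left.2 hyo').coprime_dvd_left
          (orderOf_dvd_of_pow_eq_one (by rw [sq]; exact ht))
    exact pi'_of_real S hreal hsq q hq (hqd.trans (index_dvd_of_le hle)) (htπ q hq hqd)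
  refine ⟨isSolvable_of_no_real C hno, ?_⟩
  let P : Sylow 2 C := default
  haveI : (P : Subgroup C).Normal := (Cfsg.Agent.S3861.result P).1 hno
  have hnd : ¬ 2 ∣ ((P : Subgroup C).map C.subtype).index := by
    rw [index_map_subtype]
    exact fun hd => ((Nat.prime_two.dvd_mul).1 hd).elim P.not_dvd_index
      (Nat.two_dvd_ne_zero.2 (Nat.odd_iff.1 (odd_of_pi S.two htπ)))
  refine ⟨(P.2.map C.subtype).toSylow hnd, fun g hg => mem_cent.1 (map_subtype_le _ hg), fun g hg ⟨k, hk⟩ => ?_⟩
  haveI := Sylow.unique_of_normal P inferInstance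
  set g' : C := ⟨g, mem_cent.2 hg⟩
  obtain ⟨j, -, hj⟩ := (Nat.dvd_prime_pow Nat.prime_two).1
    (orderOf_dvd_of_pow_eq_one (show g' ^ 2 ^ k = 1 from Subtype.ext (by simpa using hk)))
  obtain ⟨P', hP'⟩ := (IsPGroup.of_card (n := j) (by rw [Nat.card_zpowers, hj]) :
    IsPGroup 2 (zpowers g')).exists_le_sylow
  rw [Subsingleton.elim P' P] at hP'
  exact ⟨g', hP' (mem_zpowers g'), rfl⟩

/-- An element moving an involution-centralised element by a central involution centralises it. -/
theorem commute_of_central {w g : G} (hodd : Odd (cs w)) (hw : w * w = 1)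
    (hz : g * w * g⁻¹ * w⁻¹ ∈ center G) : Commute g w := by
  set z := g * w * g⁻¹ * w⁻¹ with hzdef
  have hgw : g * w * g⁻¹ = z * w := by rw [hzdef, inv_mul_cancel_right]
  have hcz : ∀ a : G, a * z = z * a := fun a => mem_center_iff.1 hz a
  have hz2 : z * z = 1 := by
    have h1 : (g * w * g⁻¹) * (g * w * g⁻¹) = 1 := by
      rw [show (g * w * g⁻¹) * (g * w * g⁻¹) = g * (w * w) * g⁻¹ by group, hw]; group
    rw [hgw, show z * w * (z * w) = z * (w * z) * w by group, hcz w, show z * (z * w) * w = z * z * (w * w) by group,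
      hw, mul_one] at h1
    exact h1
  set C := centralizer ({w} : Set G) with hC
  have hgN : g ∈ normalizer (C : Set G) := by
    refine mem_normalizer_iff.2 fun a => ?_
    simp only [hC, mem_cent]
    have h : g⁻¹ * w * g = z⁻¹ * w := by
      have h1 := congrArg (fun x => g⁻¹ * x * g) hgw
      simp only [show g⁻¹ * (g * w * g⁻¹) * g = w by group] at h1
      rw [show g⁻¹ * (z * w) * g = (g⁻¹ * z) * (w * g) by group, hcz g⁻¹, show z * g⁻¹ * (w * g) = z * (g⁻¹ * w * g) by group] at h1
      rw [eq_inv_mul_iff_mul_eq]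
      exact h1.symm
    constructor
    · intro ha
      show g * a * g⁻¹ * w = w * (g * a * g⁻¹)
      calc g * a * g⁻¹ * w = g * (a * (g⁻¹ * w * g)) * g⁻¹ := by group
        _ = g * ((g⁻¹ * w * g) * a) * g⁻¹ := by
            rw [h, ((show Commute a z from hcz a).inv_right.mul_right ha).eq]
        _ = w * (g * a * g⁻¹) := by group
    · intro ha
      show a * w = w * a
      have h2 : g⁻¹ * (g * a * g⁻¹) * g = a := by group
      calc a * w = g⁻¹ * ((g * a * g⁻¹) * (g * w * g⁻¹)) * g := by group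
        _ = g⁻¹ * ((g * w * g⁻¹) * (g * a * g⁻¹)) * g := by
            rw [hgw, ((show Commute (g * a * g⁻¹) z from hcz _).mul_right ha).eq]
        _ = w * a := by group
  have h2C : g ^ 2 ∈ C := mem_cent.2 (mul_inv_eq_iff_eq_mul.1 (by
    calc g ^ 2 * w * (g ^ 2)⁻¹ = g * (g * w * g⁻¹) * g⁻¹ := by rw [sq]; group
      _ = (g * z) * w * g⁻¹ := by rw [hgw]; group
      _ = z * (g * w * g⁻¹) := by rw [hcz g]; group
      _ = w := by rw [hgw, ← mul_assoc, hz2, one_mul]))
  set N := normalizer (C : Set G)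
  haveI : (C.subgroupOf N).Normal := normal_in_normalizer
  have hidx : Odd (C.subgroupOf N).index := hodd.of_dvd_nat (relIndex_dvd_index_of_le le_normalizer)
  obtain ⟨m, hm⟩ := hidx
  have h1 := (C.subgroupOf N).pow_index_mem ⟨g, hgN⟩
  rw [hm, mem_subgroupOf] at h1
  have h3 : g = (g ^ 2) ^ (-(m : ℤ)) * g ^ (2 * m + 1) := by
    rw [← zpow_natCast g 2, ← zpow_mul, ← zpow_natCast g (2 * m + 1), ← zpow_add]
    push_cast
    ring_nf
    rw [zpow_one]
  exact mem_cent.1 (h3 ▸ mul_mem (zpow_mem h2C _) (by simpa using h1))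

theorem pCore_le_sylow (P : Sylow 2 G) : Cfsg.pCore 2 G ≤ (P : Subgroup G) := by
  have h : IsPGroup 2 ↥((P : Subgroup G) ⊔ Cfsg.pCore 2 G) :=
    P.2.to_sup_of_normal_right (Cfsg.Lib.Components.isPGroup_pCore 2)
  exact le_sup_right.trans (P.3 h le_sup_left).le

/-- Simultaneous conjugation for coprime class sizes. -/
theorem exists_conj_pair {a b : G} (h : (cs a).Coprime (cs b)) (g k : G) :
    ∃ m : G, m * a * m⁻¹ = g * a * g⁻¹ ∧ m * b * m⁻¹ = k * b * k⁻¹ := by
  obtain ⟨x, hx, y, hy, hxy⟩ := exists_mul_of_coprime (A := centralizer ({a} : Set G))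
    (B := centralizer ({b} : Set G)) h (g⁻¹ * k)
  refine ⟨g * x, ?_, ?_⟩
  · rw [show g * x * a * (g * x)⁻¹ = g * (x * a * x⁻¹) * g⁻¹ by group, (mem_cent.1 hx).eq, mul_inv_cancel_right]
  · rw [show k = g * (x * y) by rw [← hxy, mul_inv_cancel_left],
      show g * (x * y) * b * (g * (x * y))⁻¹ = (g * x) * (y * b * y⁻¹) * (g * x)⁻¹ by group, (mem_cent.1 hy).eq,
      mul_inv_cancel_right]

/-- The class of the product of commuting involutions with coprime class sizes, when of size coprime to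
the first. -/
theorem cs_mul_eq {t c : G} (ht : t * t = 1) (hc : Commute t c) (h : (cs t).Coprime (cs c))
    (h' : (cs t).Coprime (cs (t * c))) : cs (t * c) = cs c := by
  have he : centralizer ({t} : Set G) ⊓ centralizer ({t * c} : Set G) =
      centralizer ({t} : Set G) ⊓ centralizer ({c} : Set G) := by
    ext x
    simp only [mem_inf, mem_cent]
    constructor
    · rintro ⟨h1, h2⟩
      refine ⟨h1, ?_⟩
      have h3 := h1.mul_right h2
      rwa [← mul_assoc, ht, one_mul] at h3
    · rintro ⟨h1, h2⟩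
      exact ⟨h1, h1.mul_right h2⟩
  have h1 := index_inf_of_coprime h
  rw [← he, index_inf_of_coprime h'] at h1
  exact Nat.eq_of_mul_eq_mul_left (Nat.pos_of_ne_zero index_ne_zero_of_finite) h1

section Core

variable {π : Set ℕ} {t : G}

theorem mem_pCore (S : Split G π) (hO : ∀ N : Subgroup G, N.Normal → Odd (Nat.card N) → N = ⊥)
    (ht : t * t = 1) (htπ : PiSize π t) : t ∈ Cfsg.pCore 2 G := by
  by_contra hnot
  obtain ⟨x, hx1, hxo, hx⟩ := Cfsg.Agent.S3195.exists_inverted ht hnot
  have hti : t⁻¹ = t := inv_eq_of_mul_eq_one_right ht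
  have hcop : (cs t).Coprime (cs x) :=
    coprime_of_pi htπ (pi'_of_real S (isConj_inv_of_invert ht hx) (ne_one_of_odd hx1 hxo))
  have hall : ∀ g : G, t * (g * x * g⁻¹) * t = (g * x * g⁻¹)⁻¹ := by
    intro g
    obtain ⟨m, hm1, hm2⟩ := exists_conj_pair hcop 1 g
    rw [one_mul, inv_one, mul_one] at hm1
    rw [← hm2]
    calc t * (m * x * m⁻¹) * t = (m * t * m⁻¹) * (m * x * m⁻¹) * (m * t * m⁻¹) := by rw [hm1]
      _ = m * (t * x * t) * m⁻¹ := by group
      _ = (m * x * m⁻¹)⁻¹ := by rw [hx]; group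
  set D : Set G := Set.range fun g : G => g * x * g⁻¹
  have hcomm : ∀ a ∈ D, ∀ b ∈ D, a * b = b * a := by
    rintro _ ⟨g, rfl⟩ _ ⟨k, rfl⟩
    have h3 := hall (k * x * k⁻¹ * g)
    have hao : Odd (orderOf (g * x * g⁻¹)) := by
      rw [show g * x * g⁻¹ = MulAut.conj g x from rfl, MulEquiv.orderOf_eq]; exact hxo
    have hbo : Odd (orderOf (k * x * k⁻¹)) := by
      rw [show k * x * k⁻¹ = MulAut.conj k x from rfl, MulEquiv.orderOf_eq]; exact hxo
    have ha := hall g
    have hb := hall k
    rw [show k * x * k⁻¹ * g * x * (k * x * k⁻¹ * g)⁻¹ =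
      (k * x * k⁻¹) * (g * x * g⁻¹) * (k * x * k⁻¹)⁻¹ by group] at h3
    show g * x * g⁻¹ * (k * x * k⁻¹) = k * x * k⁻¹ * (g * x * g⁻¹)
    generalize g * x * g⁻¹ = a at hao ha h3 ⊢
    generalize k * x * k⁻¹ = b at hbo hb h3 ⊢
    have h4 : t * (b * a * b⁻¹) * t = b⁻¹ * a⁻¹ * b := by
      calc t * (b * a * b⁻¹) * t = t * b * (t * t) * a * (t * t) * b⁻¹ * t := by rw [ht]; group
        _ = (t * b * t) * (t * a * t) * (t * b * t)⁻¹ := by
            rw [mul_inv_rev (t * b) t, mul_inv_rev t b, hti]; group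
        _ = b⁻¹ * a⁻¹ * b := by rw [ha, hb, inv_inv]
    rw [h3, mul_inv_rev, mul_inv_rev, inv_inv] at h4
    have h5 : Commute a (b * b) := by
      refine Commute.symm ?_
      have h6 : Commute (b * b) a⁻¹ := by
        show b * b * a⁻¹ = a⁻¹ * (b * b)
        calc b * b * a⁻¹ = b * (b * (a⁻¹ * b⁻¹)) * b := by group
          _ = b * (b⁻¹ * a⁻¹ * b) * b := by rw [h4]
          _ = a⁻¹ * (b * b) := by group
      simpa using h6.inv_right
    exact (Cfsg.Agent.S3195.commute_of_sq hbo h5).eq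
  haveI : IsMulCommutative (closure D) := Subgroup.isMulCommutative_closure hcomm
  have hn : (closure D).Normal := by
    refine ⟨fun a ha h => ?_⟩
    induction ha using closure_induction with
    | mem y hy =>
      obtain ⟨g, rfl⟩ := hy
      exact subset_closure ⟨h * g, by group⟩
    | one => simp
    | mul y z _ _ hy hz => rw [← conj_mul]; exact mul_mem hy hz
    | inv y _ hy => rw [← conj_inv]; exact inv_mem hy
  have hodd : Odd (Nat.card (closure D)) := by
    have hmem : ∀ a ∈ closure D, Odd (orderOf a) := by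
      intro a ha
      induction ha using closure_induction with
      | mem y hy =>
        obtain ⟨g, rfl⟩ := hy
        show Odd (orderOf (MulAut.conj g x))
        rw [MulEquiv.orderOf_eq]; exact hxo
      | one => simp
      | mul y z hy' hz' hy hz =>
        refine (hy.mul hz).of_dvd_nat (Commute.orderOf_mul_dvd_mul_orderOf ?_)
        exact congrArg Subtype.val (mul_comm' (⟨y, hy'⟩ : closure D) ⟨z, hz'⟩)
      | inv y _ hy => rwa [orderOf_inv]
    rw [← Nat.not_even_iff_odd, even_iff_two_dvd]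
    intro h2
    haveI := Fact.mk Nat.prime_two
    obtain ⟨a, ha⟩ := exists_prime_orderOf_dvd_card' 2 h2
    have := hmem a a.2
    rw [Subgroup.orderOf_coe, ha] at this
    exact absurd this (by decide)
  have hxD : x ∈ closure D := subset_closure ⟨1, by simp⟩
  rw [hO _ hn hodd, mem_bot] at hxD
  exact hx1 hxD

theorem conj_commute (S : Split G π) (hO : ∀ N : Subgroup G, N.Normal → Odd (Nat.card N) → N = ⊥)
    (ht : t * t = 1) (ht1 : cs t ≠ 1) (htπ : PiSize π t) (g : G) : Commute t (g * t * g⁻¹) := by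
  obtain ⟨-, P, hP, -⟩ := two_closed S ht ht1 htπ
  exact (hP _ (pCore_le_sylow P ((inferInstance : (Cfsg.pCore 2 G).Normal).conj_mem t
    (mem_pCore S hO ht htπ) g))).symm

/-- The products of two conjugates of `t`. -/
def pairs (t : G) : Set G := {d | ∃ g k : G, d = (g * t * g⁻¹) * (k * t * k⁻¹)}

/-- Elements of the group generated by the products of two conjugates have classes of `π`-size. -/
theorem piSize_of_mem (S : Split G π) (ht : t * t = 1) (htπ : PiSize π t)
    (hcomm : ∀ g : G, Commute t (g * t * g⁻¹)) {c : G} (hc : c ∈ closure (pairs t)) : PiSize π c := by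
  classical
  haveI := Fact.mk Nat.prime_two
  have hT : ∀ g k : G, Commute (g * t * g⁻¹) (k * t * k⁻¹) := by
    intro g k
    have h := congrArg (fun x => g * x * g⁻¹) (hcomm (g⁻¹ * k)).eq
    show g * t * g⁻¹ * (k * t * k⁻¹) = k * t * k⁻¹ * (g * t * g⁻¹)
    calc g * t * g⁻¹ * (k * t * k⁻¹) = g * (t * (g⁻¹ * k * t * (g⁻¹ * k)⁻¹)) * g⁻¹ := by group
      _ = g * ((g⁻¹ * k * t * (g⁻¹ * k)⁻¹) * t) * g⁻¹ := h
      _ = k * t * k⁻¹ * (g * t * g⁻¹) := by group
  have hcT : ∀ w ∈ closure (pairs t), ∀ g : G, Commute w (g * t * g⁻¹) := by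
    intro w hw g
    induction hw using closure_induction with
    | mem y hy =>
      obtain ⟨a, b, rfl⟩ := hy
      exact (hT a g).mul_left (hT b g)
    | one => exact Commute.one_left _
    | mul y z _ _ hy hz => exact hy.mul_left hz
    | inv y _ hy => exact hy.inv_left
  have hTT : ∀ g : G, (g * t * g⁻¹) * (g * t * g⁻¹) = 1 := fun g => by
    rw [conj_mul, ht]; group
  have hsq : ∀ w ∈ closure (pairs t), w * w = 1 := by
    have hcc : ∀ y ∈ pairs t, ∀ z ∈ closure (pairs t), Commute y z := by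
      rintro _ ⟨a, b, rfl⟩ z hz
      exact ((hcT z hz a).symm).mul_left (hcT z hz b).symm
    have hWW : ∀ y ∈ closure (pairs t), ∀ z ∈ closure (pairs t), Commute y z := by
      intro y hy z hz
      induction hy using closure_induction with
      | mem a ha => exact hcc a ha z hz
      | one => exact Commute.one_left _
      | mul a b _ _ ha hb => exact ha.mul_left hb
      | inv a _ ha => exact ha.inv_left
    intro w hw
    induction hw using closure_induction with
    | mem y hy =>
      obtain ⟨a, b, rfl⟩ := hy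
      rw [← sq, (hT a b).mul_pow, sq, sq, hTT, hTT, one_mul]
    | one => rw [one_mul]
    | mul y z hy' hz' hy hz =>
      have : Commute y z := hWW y hy' z hz'
      rw [← sq, this.mul_pow, sq, sq, hy, hz, one_mul]
    | inv y _ hy => rw [← mul_inv_rev, hy, inv_one]
  refine (S.pure c (isConj_self_inv (hsq c hc))).elim id fun hcπ => ?_
  by_cases hc1 : cs c = 1
  · intro q hq hd
    rw [hc1] at hd
    exact absurd (Nat.dvd_one.1 hd) hq.ne_one
  exfalso
  have htc : Commute t c := by simpa using (hcT c hc 1).symm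
  have hcop : (cs t).Coprime (cs c) := coprime_of_pi htπ hcπ
  have hstc : (t * c) * (t * c) = 1 := by rw [← sq, htc.mul_pow, sq, sq, ht, hsq c hc, one_mul]
  have hpair : ∀ g k : G, (g * t * g⁻¹) * (k * c * k⁻¹) ∈ cls (t * c) := by
    intro g k
    obtain ⟨m, hm1, hm2⟩ := exists_conj_pair hcop g k
    exact ⟨m, by rw [← hm1, ← hm2]; group⟩
  rcases S.pure (t * c) (isConj_self_inv hstc) with hs | hs
  · -- size of the product equals that of `t`: translations of the class of `t`
    have hcs : cs (t * c) = cs t := by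
      rw [htc.eq]
      exact cs_mul_eq (hsq c hc) htc.symm hcop.symm (coprime_of_pi (htc.eq ▸ hs) hcπ).symm
    apply hc1
    rw [cs_eq_one_iff, mem_center_iff]
    intro g
    by_contra hg
    set c' := g * c * g⁻¹ with hc'
    set d := c * c' with hd
    have hne : d ≠ 1 := by
      intro e
      have : c' = c := by
        rw [← inv_eq_of_mul_eq_one_right (hsq c hc)]
        exact eq_inv_of_mul_eq_one_right e
      exact hg (mul_inv_eq_iff_eq_mul.1 this)
    have hsurj : ∀ k : G, ∀ s ∈ cls (t * c), ∃ a ∈ cls t, a * (k * c * k⁻¹) = s := by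
      intro k
      haveI : Finite (cls t) := Subtype.finite
      haveI : Finite (cls (t * c)) := Subtype.finite
      let f : cls t → cls (t * c) := fun a => ⟨(a : G) * (k * c * k⁻¹), by
        obtain ⟨g', hg'⟩ := a.2; rw [← hg']; exact hpair g' k⟩
      have hf : Function.Bijective f := (Nat.bijective_iff_injective_and_card f).2
        ⟨fun a b h => Subtype.ext (mul_right_cancel (congrArg Subtype.val h)),
          by rw [card_cls, card_cls, hcs]⟩
      intro s hs'
      obtain ⟨a, ha⟩ := hf.2 ⟨s, hs'⟩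
      exact ⟨a, a.2, congrArg Subtype.val ha⟩
    have hmap : ∀ a ∈ cls t, a * d ∈ cls t := by
      rintro _ ⟨g', rfl⟩
      obtain ⟨b, hb, hbe⟩ := hsurj g _ (hpair g' 1)
      simp only [one_mul, inv_one, mul_one] at hbe
      have hbc : b * c' = g' * t * g'⁻¹ * c := hbe
      have hc'2 : c' * c' = 1 := by rw [hc', conj_mul, hsq c hc]; group
      have : g' * t * g'⁻¹ * d = b := by
        rw [hd, ← mul_assoc, ← hbc, mul_assoc, hc'2, mul_one]
      rw [this]; exact hb
    have hcl : c' ∈ closure (pairs t) := by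
      have hnorm : ∀ w ∈ closure (pairs t), g * w * g⁻¹ ∈ closure (pairs t) := by
        intro w hw
        induction hw using closure_induction with
        | mem y hy =>
          obtain ⟨a, b, rfl⟩ := hy
          exact subset_closure ⟨g * a, g * b, by group⟩
        | one => simp
        | mul y z _ _ hy hz => rw [← conj_mul]; exact mul_mem hy hz
        | inv y _ hy => rw [← conj_inv]; exact inv_mem hy
      exact hnorm c hc
    have hd2 : d * d = 1 := hsq d (mul_mem hc hcl)
    let σ : Equiv.Perm (cls t) :=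
      { toFun := fun a => ⟨(a : G) * d, hmap a a.2⟩
        invFun := fun a => ⟨(a : G) * d, hmap a a.2⟩
        left_inv := fun a => Subtype.ext (by show (a : G) * d * d = a; rw [mul_assoc, hd2, mul_one])
        right_inv := fun a => Subtype.ext (by show (a : G) * d * d = a; rw [mul_assoc, hd2, mul_one]) }
    have hσ : σ ^ 2 = 1 := by
      ext a
      rw [sq, Equiv.Perm.mul_apply]
      exact congrArg _ (σ.left_inv a)
    obtain ⟨j, -, hj⟩ := (Nat.dvd_prime_pow Nat.prime_two).1
      (orderOf_dvd_of_pow_eq_one (show σ ^ 2 ^ 1 = 1 by rwa [pow_one]))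
    have hZ : IsPGroup 2 (zpowers σ) := IsPGroup.of_card (n := j) (by rw [Nat.card_zpowers, hj])
    haveI : Finite (cls t) := Subtype.finite
    obtain ⟨a, ha⟩ := hZ.nonempty_fixed_point_of_prime_not_dvd_card (cls t)
      (by rw [card_cls]; exact Nat.two_dvd_ne_zero.2 (Nat.odd_iff.1 (odd_of_pi S.two htπ)))
    have hfix : (a : G) * d = a := congrArg Subtype.val (ha ⟨σ, mem_zpowers σ⟩)
    exact hne (mul_eq_left.1 hfix)
  · -- size of the product equals that of `c`: translations of the class of `c`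
    have hcs : cs (t * c) = cs c := cs_mul_eq ht htc hcop (coprime_of_pi htπ hs)
    haveI : Finite (cls c) := Subtype.finite
    haveI : Finite (cls (t * c)) := Subtype.finite
    have hsurj : ∀ g : G, ∀ s ∈ cls (t * c), ∃ a ∈ cls c, (g * t * g⁻¹) * a = s := by
      intro g
      let f : cls c → cls (t * c) := fun a => ⟨(g * t * g⁻¹) * (a : G), by
        obtain ⟨k, hk⟩ := a.2; rw [← hk]; exact hpair g k⟩
      have hf : Function.Bijective f := (Nat.bijective_iff_injective_and_card f).2
        ⟨fun a b h => Subtype.ext (mul_left_cancel (congrArg Subtype.val h)),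
          by rw [card_cls, card_cls, hcs]⟩
      intro s hs'
      obtain ⟨a, ha⟩ := hf.2 ⟨s, hs'⟩
      exact ⟨a, a.2, congrArg Subtype.val ha⟩
    have hstable : ∀ w ∈ closure (pairs t), ∀ a ∈ cls c, w * a ∈ cls c ∧ w⁻¹ * a ∈ cls c := by
      intro w hw
      induction hw using closure_induction with
      | mem y hy =>
        obtain ⟨g, k, rfl⟩ := hy
        rintro _ ⟨m, rfl⟩
        have key : ∀ g k : G, g * t * g⁻¹ * (k * t * k⁻¹) * (m * c * m⁻¹) ∈ cls c := by
          intro g k
          obtain ⟨b, hb, hbe⟩ := hsurj g _ (hpair k m)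
          have : g * t * g⁻¹ * (k * t * k⁻¹) * (m * c * m⁻¹) = b := by
            rw [mul_assoc (g * t * g⁻¹), ← hbe, ← mul_assoc, hTT, one_mul]
          rw [this]; exact hb
        refine ⟨key g k, ?_⟩
        rw [show (g * t * g⁻¹ * (k * t * k⁻¹))⁻¹ = k * t * k⁻¹ * (g * t * g⁻¹) by
          rw [mul_inv_rev, inv_eq_of_mul_eq_one_right (hTT g), inv_eq_of_mul_eq_one_right (hTT k)]]
        exact key k g
      | one => intro a ha; simpa using ha
      | mul y z _ _ hy hz =>
        intro a ha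
        exact ⟨by rw [mul_assoc]; exact (hy _ (hz a ha).1).1,
          by rw [mul_inv_rev, mul_assoc]; exact (hz _ (hy a ha).2).2⟩
      | inv y _ hy =>
        intro a ha
        exact ⟨(hy a ha).2, by rw [inv_inv]; exact (hy a ha).1⟩
    obtain ⟨k, hk⟩ := (hstable c hc c ⟨1, by simp⟩).1
    rw [hsq c hc] at hk
    simp only [conj_eq_one_iff] at hk
    exact hc1 (cs_eq_one_iff.2 (hk ▸ one_mem _))

/-- A real element of odd order fixes only central elements of the module. -/
theorem central_of_commute (S : Split G π) {W : Subgroup G} [W.Normal] (hW : ∀ c ∈ W, PiSize π c)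
    (hW2 : ∀ c ∈ W, c * c = 1) {x d : G} (hx1 : x ≠ 1) (hxo : Odd (orderOf x)) (hx : IsConj x x⁻¹)
    (hd : d ∈ W) (hxd : Commute x d) : d ∈ center G := by
  haveI := Fact.mk Nat.prime_two
  by_contra hnc
  have hd1 : cs d ≠ 1 := fun e => hnc (cs_eq_one_iff.1 e)
  obtain ⟨-, P, hP, -⟩ := two_closed S (hW2 d hd) hd1 (hW d hd)
  obtain ⟨g, hg⟩ := isConj_iff.1 hx
  obtain ⟨j, m, hm, hgm⟩ := Nat.exists_eq_two_pow_mul_odd (n := orderOf g) (orderOf_pos g).ne'
  set v := g ^ m
  have hv : v * x * v⁻¹ = x⁻¹ := by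
    obtain ⟨i, rfl⟩ := hm
    show g ^ (2 * i + 1) * x * (g ^ (2 * i + 1))⁻¹ = x⁻¹
    clear hgm v
    induction i with
    | zero => simpa using hg
    | succ i ih =>
      rw [show 2 * (i + 1) + 1 = 2 + (2 * i + 1) by ring, pow_add,
        show g ^ 2 * g ^ (2 * i + 1) * x * (g ^ 2 * g ^ (2 * i + 1))⁻¹ =
          g * (g * (g ^ (2 * i + 1) * x * (g ^ (2 * i + 1))⁻¹) * g⁻¹) * g⁻¹ by rw [sq]; group, ih,
        show g * x⁻¹ * g⁻¹ = (g * x * g⁻¹)⁻¹ by group, hg, inv_inv, hg]
  have hv2 : v ^ 2 ^ j = 1 := by rw [← pow_mul, mul_comm, ← hgm, pow_orderOf_eq_one]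
  obtain ⟨j', -, hj'⟩ := (Nat.dvd_prime_pow Nat.prime_two).1 (orderOf_dvd_of_pow_eq_one hv2)
  obtain ⟨P1, hP1⟩ := (IsPGroup.of_card (n := j') (by rw [Nat.card_zpowers, hj']) :
    IsPGroup 2 (zpowers v)).exists_le_sylow
  obtain ⟨k, hk⟩ := MulAction.exists_smul_eq G P P1
  have hvk : Commute (k⁻¹ * v * k) d := by
    refine hP _ ?_
    have h1 := hP1 (mem_zpowers v)
    rw [← hk, Sylow.smul_def, Sylow.pointwise_smul_def, Subgroup.mem_pointwise_smul_iff_inv_smul_mem] at h1
    simpa [MulAut.smul_def] using h1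
  set d' := k * d * k⁻¹ with hd'
  have hvd : Commute v d' := by
    show v * (k * d * k⁻¹) = k * d * k⁻¹ * v
    calc v * (k * d * k⁻¹) = k * ((k⁻¹ * v * k) * d) * k⁻¹ := by group
      _ = k * (d * (k⁻¹ * v * k)) * k⁻¹ := by rw [hvk.eq]
      _ = k * d * k⁻¹ * v := by group
  have hxd' : Commute x d' := by
    obtain ⟨m', hm1, hm2⟩ := exists_conj_pair
      (coprime_of_pi (hW d hd) (pi'_of_real S hx (ne_one_of_odd hx1 hxo))) k 1
    rw [one_mul, inv_one, mul_one] at hm2
    rw [hd', ← hm1, ← hm2]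
    show m' * x * m'⁻¹ * (m' * d * m'⁻¹) = m' * d * m'⁻¹ * (m' * x * m'⁻¹)
    rw [conj_mul, conj_mul, hxd.eq]
  have hd'W : d' ∈ W := (inferInstance : W.Normal).conj_mem d hd k
  have hd'2 := hW2 d' hd'W
  have hreal : IsConj (x * d') (x * d')⁻¹ := by
    refine isConj_iff.2 ⟨v, ?_⟩
    rw [mul_inv_rev, inv_eq_of_mul_eq_one_right hd'2,
      show v * (x * d') * v⁻¹ = (v * x * v⁻¹) * (v * d' * v⁻¹) by group, hv, hvd.eq, mul_inv_cancel_right,
      hxd'.inv_left.eq]
  have hcop : (orderOf x).Coprime (orderOf d') :=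
    (Nat.coprime_two_right.2 hxo).coprime_dvd_right (orderOf_dvd_of_pow_eq_one (by rw [sq]; exact hd'2))
  have hne : x * d' * (x * d') ≠ 1 := by
    rw [← sq, hxd'.mul_pow, sq, sq, hd'2, mul_one]
    exact ne_one_of_odd hx1 hxo
  obtain ⟨q, hq, hqd⟩ := Nat.exists_prime_and_dvd (n := cs d') (by rw [hd', cs_conj]; exact hd1)
  refine pi'_of_real S hreal hne q hq (hqd.trans ?_) (hW d' hd'W q hq hqd)
  exact index_dvd_of_le (by rw [cent_mul_of_coprime hxd' hcop]; exact inf_le_right)

/-- The group without odd core is solvable, and the primes of the subgroup generated by the two-elements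
lie in `π ∪ {2}`. -/
theorem core_main (S : Split G π) (hO : ∀ N : Subgroup G, N.Normal → Odd (Nat.card N) → N = ⊥)
    (ht : t * t = 1) (ht1 : cs t ≠ 1) (htπ : PiSize π t) : Group.IsSolvable G ∧
      ∀ p : ℕ, p.Prime → p ≠ 2 → p ∉ π → ¬ p ∣ Nat.card (el2Closure G) := by
  classical
  haveI := Fact.mk Nat.prime_two
  have hcomm := conj_commute S hO ht ht1 htπ
  set W : Subgroup G := closure (pairs t) with hWdef
  haveI hWn : W.Normal := by
    refine ⟨fun w hw g => ?_⟩
    induction hw using closure_induction with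
    | mem y hy =>
      obtain ⟨a, b, rfl⟩ := hy
      exact subset_closure ⟨g * a, g * b, by group⟩
    | one => simp
    | mul y z _ _ hy hz => rw [← conj_mul]; exact mul_mem hy hz
    | inv y _ hy => rw [← conj_inv]; exact inv_mem hy
  have hW : ∀ c ∈ W, PiSize π c := fun c hc => piSize_of_mem S ht htπ hcomm hc
  have hWle : W ≤ Cfsg.pCore 2 G := (closure_le _).2 (by
    rintro _ ⟨g, k, rfl⟩
    exact mul_mem ((inferInstance : (Cfsg.pCore 2 G).Normal).conj_mem t (mem_pCore S hO ht htπ) g)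
      ((inferInstance : (Cfsg.pCore 2 G).Normal).conj_mem t (mem_pCore S hO ht htπ) k))
  have hTT : ∀ g k : G, Commute (g * t * g⁻¹) (k * t * k⁻¹) := by
    intro g k
    show g * t * g⁻¹ * (k * t * k⁻¹) = k * t * k⁻¹ * (g * t * g⁻¹)
    calc g * t * g⁻¹ * (k * t * k⁻¹) = g * (t * (g⁻¹ * k * t * (g⁻¹ * k)⁻¹)) * g⁻¹ := by group
      _ = g * ((g⁻¹ * k * t * (g⁻¹ * k)⁻¹) * t) * g⁻¹ := by rw [(hcomm (g⁻¹ * k)).eq]
      _ = k * t * k⁻¹ * (g * t * g⁻¹) := by group
  haveI hWc : IsMulCommutative W := Subgroup.isMulCommutative_closure (by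
    rintro _ ⟨a, b, rfl⟩ _ ⟨c, d, rfl⟩
    exact (((hTT a c).mul_right (hTT a d)).mul_left ((hTT b c).mul_right (hTT b d))).eq)
  have hW2 : ∀ c ∈ W, c * c = 1 := by
    intro c hc
    induction hc using closure_induction with
    | mem y hy =>
      obtain ⟨a, b, rfl⟩ := hy
      rw [← sq, (hTT a b).mul_pow, sq, sq, conj_mul, conj_mul, ht]; group
    | one => rw [one_mul]
    | mul y z hy' hz' hy hz =>
      have : Commute y z := congrArg Subtype.val (mul_comm' (⟨y, hy'⟩ : W) ⟨z, hz'⟩)
      rw [← sq, this.mul_pow, sq, sq, hy, hz, one_mul]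
    | inv y _ hy => rw [← mul_inv_rev, hy, inv_one]
  set Z : Subgroup W := (center G).subgroupOf W with hZ
  letI : CommGroup W := { (inferInstance : Group W) with mul_comm := fun a b => mul_comm' a b }
  set Q := W ⧸ Z with hQ
  have hmapZ : ∀ g : G, Z ≤ Z.comap (MulAut.conjNormal g : MulAut W).toMonoidHom := by
    intro g z hz
    rw [mem_comap, mem_subgroupOf] at *
    show g * (z : G) * g⁻¹ ∈ center G
    rw [mem_center_iff.1 hz g, mul_inv_cancel_right]
    exact hz
  let act : G → Q →* Q := fun g => QuotientGroup.map Z Z (MulAut.conjNormal g : MulAut W).toMonoidHom (hmapZ g)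
  have hact : ∀ (g : G) (w : W), act g (w : Q) = ((MulAut.conjNormal g w : W) : Q) := fun g w => rfl
  have hact1 : ∀ q : Q, act 1 q = q := by
    intro q; induction q using QuotientGroup.induction_on with
    | H w => rw [hact]; congr 1; exact Subtype.ext (by simp)
  have hactmul : ∀ g k : G, ∀ q : Q, act (g * k) q = act g (act k q) := by
    intro g k q; induction q using QuotientGroup.induction_on with
    | H w => rw [hact, hact, hact, map_mul, MulAut.mul_apply]
  let φ : G →* MulAut Q :=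
    { toFun := fun g =>
        { toFun := act g
          invFun := act g⁻¹
          left_inv := fun q => by rw [← hactmul, inv_mul_cancel, hact1]
          right_inv := fun q => by rw [← hactmul, mul_inv_cancel, hact1]
          map_mul' := map_mul (act g) }
      map_one' := MulEquiv.ext hact1
      map_mul' := fun g k => MulEquiv.ext (hactmul g k) }
  have hφ : ∀ (g : G) (w : W), φ g (w : Q) = ((MulAut.conjNormal g w : W) : Q) := hact
  letI : DistribMulAction φ.range (Additive Q) :=
    { smul := fun h a => Additive.ofMul ((h : MulAut Q) a.toMul)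
      one_smul := fun a => rfl
      mul_smul := fun h k a => rfl
      smul_zero := fun h => congrArg Additive.ofMul (map_one (h : MulAut Q))
      smul_add := fun h a b => congrArg Additive.ofMul (map_mul (h : MulAut Q) a.toMul b.toMul) }
  haveI : FaithfulSMul φ.range (Additive Q) := ⟨fun {h k} hk => Subtype.ext (MulEquiv.ext fun q =>
    Additive.ofMul.injective (hk (Additive.ofMul q)))⟩
  have hrep : ∀ v : Additive Q, ∃ w : W, Additive.ofMul (w : Q) = v := fun v => by
    obtain ⟨w, hw⟩ := QuotientGroup.mk_surjective v.toMul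
    exact ⟨w, congrArg Additive.ofMul hw⟩
  have hzero : ∀ w : W, Additive.ofMul (w : Q) = 0 ↔ (w : G) ∈ center G := by
    intro w
    rw [ofMul_eq_zero, QuotientGroup.eq_one_iff, hZ, mem_subgroupOf]
  have hstab : ∀ (g : G) (w : W),
      (⟨φ g, g, rfl⟩ : φ.range) • Additive.ofMul (w : Q) = Additive.ofMul (w : Q) ↔ Commute g (w : G) := by
    intro g w
    show Additive.ofMul (φ g (w : Q)) = _ ↔ _
    rw [Additive.ofMul.apply_eq_iff_eq, hφ, QuotientGroup.eq, hZ, mem_subgroupOf]
    constructor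
    · intro h
      refine commute_of_central (odd_of_pi S.two (hW _ w.2)) (hW2 _ w.2) ?_
      have h' : (g * (w : G) * g⁻¹)⁻¹ * (w : G) ∈ center G := by simpa using h
      rw [show g * (w : G) * g⁻¹ * (w : G)⁻¹ = (w : G) * ((g * (w : G) * g⁻¹)⁻¹ * (w : G))⁻¹ * (w : G)⁻¹ by group]
      exact (inferInstance : (center G).Normal).conj_mem _ (inv_mem h') _
    · intro h
      have : (MulAut.conjNormal g w : W) = w := Subtype.ext (by
        show g * (w : G) * g⁻¹ = w
        rw [h.eq, mul_inv_cancel_right])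
      rw [this, inv_mul_cancel]
      exact one_mem _
  obtain ⟨w0, hw0⟩ : ∃ w : W, (w : G) ∉ center G := by
    by_contra hall
    push Not at hall
    apply ht1
    rw [cs_eq_one_iff, mem_center_iff]
    intro g
    refine (commute_of_central (odd_of_pi S.two htπ) ht ?_).eq
    have hm : g * t * g⁻¹ * t⁻¹ ∈ W := subset_closure ⟨g, 1, by
      rw [inv_eq_of_mul_eq_one_right ht]; group⟩
    exact hall ⟨_, hm⟩
  haveI : Nontrivial (Additive Q) := ⟨⟨Additive.ofMul (w0 : Q), 0, fun e => hw0 ((hzero w0).1 e)⟩⟩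
  have hw01 : cs (w0 : G) ≠ 1 := fun e => hw0 (cs_eq_one_iff.1 e)
  obtain ⟨hsolC, P0, hP0, hP0'⟩ := two_closed S (hW2 _ w0.2) hw01 (hW _ w0.2)
  set K := φ.ker with hK
  have hKle : K ≤ centralizer ({(w0 : G)} : Set G) := fun k hk => mem_cent.2 ((hstab k w0).1 (by
    show Additive.ofMul (φ k (w0 : Q)) = _
    rw [MonoidHom.mem_ker.1 hk]; rfl))
  set N2 : Subgroup G := (P0 : Subgroup G) ⊓ K with hN2
  haveI hN2n : N2.Normal := ⟨fun n hn g => by
    have hnK : g * n * g⁻¹ ∈ K := (inferInstance : K.Normal).conj_mem n hn.2 g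
    refine ⟨hP0' _ (mem_cent.1 (hKle hnK)) ?_, hnK⟩
    obtain ⟨k, hk⟩ := el2_of_pgroup P0.2 hn.1
    exact ⟨k, by rw [conj_pow, hk]; group⟩⟩
  have hN2p : IsPGroup 2 N2 := P0.2.to_le inf_le_left
  set q₂ := QuotientGroup.mk' N2
  let ψ : G ⧸ N2 →* φ.range := QuotientGroup.lift N2 φ.rangeRestrict (fun n hn => by
    rw [MonoidHom.mem_ker]; exact Subtype.ext (MonoidHom.mem_ker.1 hn.2))
  have hψs : Function.Surjective ψ := fun h => by
    obtain ⟨g, hg⟩ := φ.rangeRestrict_surjective h
    exact ⟨q₂ g, hg⟩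
  have hψodd : Odd (Nat.card ψ.ker) := by
    rw [← Nat.not_even_iff_odd, even_iff_two_dvd]
    intro h2
    obtain ⟨⟨a, ha⟩, hao⟩ := exists_prime_orderOf_dvd_card' 2 h2
    obtain ⟨g, rfl⟩ := QuotientGroup.mk'_surjective N2 a
    have hg2 : g * g ∈ N2 := by
      refine (QuotientGroup.eq_one_iff _).1 ?_
      show q₂ (g * g) = 1
      have := congrArg Subtype.val (pow_orderOf_eq_one (⟨q₂ g, ha⟩ : ψ.ker))
      rw [hao] at this
      simpa [sq, map_mul] using this
    have hgK : g ∈ K := MonoidHom.mem_ker.2 (congrArg Subtype.val (MonoidHom.mem_ker.1 ha))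
    obtain ⟨k, hk⟩ := el2_of_pgroup P0.2 hg2.1
    have hgN : g ∈ N2 := ⟨hP0' g (mem_cent.1 (hKle hgK))
      ⟨k + 1, by rw [pow_succ', pow_mul, sq]; exact hk⟩, hgK⟩
    have : (⟨q₂ g, ha⟩ : ψ.ker) = 1 := Subtype.ext ((QuotientGroup.eq_one_iff g).2 hgN)
    rw [this, orderOf_one] at hao
    omega
  have hlift : ∀ y : φ.range, y ≠ 1 → Odd (orderOf y) → IsConj y y⁻¹ →
      ∃ x : G, x ≠ 1 ∧ Odd (orderOf x) ∧ IsConj x x⁻¹ ∧ φ x = y := by
    intro y hy1 hyo hy
    obtain ⟨a, hay, ha⟩ := exists_real_lift ψ hψs hψodd hy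
    have hao : Odd (orderOf a) := odd_orderOf_of_lift ψ hψodd (hay ▸ hyo)
    obtain ⟨x, hxa, hxo, hx⟩ := exists_real_odd_lift N2 hN2p hao ha
    have hxy : φ x = y := by rw [← hay, ← hxa]; rfl
    exact ⟨x, fun e => hy1 (Subtype.ext (by rw [← hxy, e, map_one]; rfl)), hxo, hx, hxy⟩
  have hSpread : Spread φ.range (Additive Q) := by
    refine ⟨fun v => ?_, fun v hv => ?_, fun y hy1 hyo hy v hyv => ?_, fun y hy1 hyo hy v h => ?_⟩
    · obtain ⟨w, rfl⟩ := hrep v
      rw [← ofMul_mul, ← QuotientGroup.mk_mul, hzero]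
      show (w : G) * w ∈ center G
      rw [hW2 _ w.2]; exact one_mem _
    · obtain ⟨w, rfl⟩ := hrep v
      have hwc : (w : G) ∉ center G := fun e => hv ((hzero w).2 e)
      obtain ⟨-, P, hP, hP'⟩ := two_closed S (hW2 _ w.2) (fun e => hwc (cs_eq_one_iff.1 e)) (hW _ w.2)
      refine ⟨P.mapSurjective φ.rangeRestrict_surjective, ?_, ?_⟩
      · intro h hh
        rw [Sylow.coe_mapSurjective] at hh
        obtain ⟨g, hg, rfl⟩ := hh
        exact (hstab g w).2 (hP g hg)
      · rintro ⟨_, g, rfl⟩ hfix ⟨k, hk⟩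
        have hgw : Commute g (w : G) := (hstab g w).1 hfix
        obtain ⟨a, m, hm, ham⟩ := Nat.exists_eq_two_pow_mul_odd (n := orderOf g) (orderOf_pos g).ne'
        obtain ⟨j, hj⟩ := exists_pow_eq_self_of_coprime (x := (⟨φ g, g, rfl⟩ : φ.range)) (n := m)
          ((Nat.Coprime.pow_right k (Nat.coprime_two_right.2 hm)).coprime_dvd_right (orderOf_dvd_of_pow_eq_one hk))
        have hmem : (g ^ m) ^ j ∈ (P : Subgroup G) := hP' _ ((hgw.pow_left m).pow_left j)
          ⟨a, by rw [← pow_mul, ← pow_mul, show m * (j * 2 ^ a) = 2 ^ a * m * j by ring, ← ham, pow_mul,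
            pow_orderOf_eq_one, one_pow]⟩
        rw [Sylow.coe_mapSurjective]
        refine ⟨_, hmem, ?_⟩
        rw [map_pow, map_pow]
        exact hj
    · obtain ⟨x, hx1, hxo, hx, hxy⟩ := hlift y hy1 hyo hy
      obtain ⟨w, rfl⟩ := hrep v
      rw [show y = ⟨φ x, x, rfl⟩ from Subtype.ext hxy.symm, hstab] at hyv
      exact (hzero w).2 (central_of_commute S hW hW2 hx1 hxo hx w.2 hyv)
    · obtain ⟨x, hx1, hxo, hx, hxy⟩ := hlift y hy1 hyo hy
      obtain ⟨w, rfl⟩ := hrep v
      obtain ⟨_, g, rfl⟩ := h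
      obtain ⟨a, ha, b, hb, hab⟩ := exists_mul_of_coprime (A := centralizer ({x} : Set G))
        (B := centralizer ({(w : G)} : Set G))
        (coprime_of_pi (hW _ w.2) (pi'_of_real S hx (ne_one_of_odd hx1 hxo))).symm g
      refine ⟨⟨φ a, a, rfl⟩, Subtype.ext ?_, ?_⟩
      · show φ a * y = y * φ a
        rw [← hxy, ← map_mul, ← map_mul, (mem_cent.1 ha).eq]
      · have h1 : (⟨φ g, g, rfl⟩ : φ.range) = ⟨φ a, a, rfl⟩ * ⟨φ b, b, rfl⟩ :=
          Subtype.ext (by show φ g = φ a * φ b; rw [hab, map_mul])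
        rw [h1, mul_smul, (hstab b w).2 (mem_cent.1 hb)]
  refine ⟨?_, fun p hp hp2 hpπ => ?_⟩
  · haveI := hSpread.isSolvable
    haveI := hsolC
    haveI : Group.IsSolvable K := Group.isSolvable_of_isSolvable_injective (inclusion_injective hKle)
    exact Group.isSolvable_of_ker_le_range K.subtype φ.rangeRestrict (by
      intro x hx
      rw [Subgroup.range_subtype]
      exact MonoidHom.mem_ker.2 (congrArg Subtype.val (MonoidHom.mem_ker.1 hx)))
  · have horb : ∀ v : Additive Q, ¬ p ∣ Nat.card (MulAction.orbit φ.range v) := by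
      intro v hd
      obtain ⟨w, rfl⟩ := hrep v
      rw [Nat.card_coe_set_eq, ← MulAction.index_stabilizer] at hd
      refine hpπ (hW _ w.2 p hp (hd.trans ((index_dvd_of_le ?_).trans
        (index_map_dvd _ φ.rangeRestrict_surjective))))
      rintro _ ⟨g, hg, rfl⟩
      exact MulAction.mem_stabilizer_iff.2 ((hstab g w).2 (mem_cent.1 hg))
    have h1 := hSpread.not_dvd_card_el2 hp hp2 horb
    have hq₂ : ¬ p ∣ Nat.card (el2Closure (G ⧸ N2)) := by
      refine not_dvd_el2Closure hp hp2 ψ.ker (Cfsg.Agent.PF.isSolvable_of_odd _ hψodd) hψodd ?_ ?_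
      · intro s hs
        refine ⟨ψ.ker, le_rfl, by rw [relIndex_self]; exact fun h => hp.ne_one (Nat.dvd_one.1 h), ?_⟩
        intro x hx
        obtain ⟨g, rfl⟩ := QuotientGroup.mk'_surjective N2 s
        obtain ⟨k, rfl⟩ := QuotientGroup.mk'_surjective N2 x
        have hkK : k ∈ K := MonoidHom.mem_ker.2 (congrArg Subtype.val (MonoidHom.mem_ker.1 hx))
        have hg : El2 g := by
          obtain ⟨a, ha⟩ := hs
          rw [← map_pow] at ha
          obtain ⟨b, hb⟩ := el2_of_pgroup hN2p ((QuotientGroup.eq_one_iff _).1 ha)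
          exact ⟨a + b, by rw [pow_add, pow_mul]; exact hb⟩
        obtain ⟨j, -, hj⟩ := (Nat.dvd_prime_pow Nat.prime_two).1 (orderOf_dvd_of_pow_eq_one hg.choose_spec)
        obtain ⟨P1, hP1⟩ := (IsPGroup.of_card (n := j) (by rw [Nat.card_zpowers, hj]) :
          IsPGroup 2 (zpowers g)).exists_le_sylow
        obtain ⟨a, ha⟩ := MulAction.exists_smul_eq G P0 P1
        have hg' : a⁻¹ * g * a ∈ (P0 : Subgroup G) := by
          have h2 := hP1 (mem_zpowers g)
          rw [← ha, Sylow.smul_def, Sylow.pointwise_smul_def, Subgroup.mem_pointwise_smul_iff_inv_smul_mem] at h2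
          simpa [MulAut.smul_def] using h2
        have hk' : a⁻¹ * k * a ∈ K := by
          have := (inferInstance : K.Normal).conj_mem k hkK a⁻¹
          rwa [inv_inv] at this
        set g' := a⁻¹ * g * a
        set k' := a⁻¹ * k * a
        have h3 : k' * g' * k'⁻¹ ∈ (P0 : Subgroup G) := by
          refine hP0' _ ?_ ?_
          · exact ((mem_cent.1 (hKle hk')).mul_left (hP0 _ hg')).mul_left (mem_cent.1 (hKle hk')).inv_left
          · obtain ⟨b, hb⟩ := el2_of_pgroup P0.2 hg'
            exact ⟨b, by rw [conj_pow, hb]; group⟩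
        have h4 : k' * g' * k'⁻¹ * g'⁻¹ ∈ N2 := mem_inf.2 ⟨mul_mem h3 (inv_mem hg'), by
          rw [show k' * g' * k'⁻¹ * g'⁻¹ = k' * (g' * k'⁻¹ * g'⁻¹) by group]
          exact mul_mem hk' ((inferInstance : K.Normal).conj_mem _ (inv_mem hk') g')⟩
        have h5 : k * g * k⁻¹ * g⁻¹ ∈ N2 := by
          have := hN2n.conj_mem _ h4 a
          rwa [show a * (k' * g' * k'⁻¹ * g'⁻¹) * a⁻¹ = k * g * k⁻¹ * g⁻¹ by simp only [k', g']; group] at this
        have h6 : q₂ (k * g * k⁻¹ * g⁻¹) = 1 := (QuotientGroup.eq_one_iff _).2 h5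
        show q₂ k * q₂ g = q₂ g * q₂ k
        rw [← mul_inv_eq_iff_eq_mul, ← mul_inv_eq_one, ← map_mul, ← map_inv, ← map_mul, ← map_inv, ← map_mul]
        exact h6
      · rw [relIndex_ker]
        intro hd
        refine h1 (hd.trans ?_)
        exact (Nat.dvd_refl _).trans (card_dvd_of_le (el2Closure_map_le ψ))
    intro hd
    have hmul : Nat.card (N2.subgroupOf (el2Closure G)) * Nat.card ((el2Closure G).map q₂) =
        Nat.card (el2Closure G) := by
      have e1 : (q₂.comp (el2Closure G).subtype).range = (el2Closure G).map q₂ := by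
        rw [MonoidHom.range_comp, range_subtype]
      have e2 : (q₂.comp (el2Closure G).subtype).ker = N2.subgroupOf (el2Closure G) := by
        ext x
        rw [MonoidHom.mem_ker, mem_subgroupOf]
        exact QuotientGroup.eq_one_iff _
      rw [← e1, ← index_ker, e2]
      exact (N2.subgroupOf (el2Closure G)).card_mul_index
    rw [← hmul] at hd
    rcases (Nat.Prime.dvd_mul hp).1 hd with h | h
    · obtain ⟨k, hk⟩ := (hN2p.comap_subtype (K := el2Closure G)).exists_card_eq
      rw [subgroupOf, hk] at h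
      exact hp2 ((Nat.prime_dvd_prime_iff_eq hp Nat.prime_two).1 (hp.dvd_of_dvd_pow h))
    · exact hq₂ (h.trans (card_dvd_of_le (el2Closure_map_le q₂)))

end Core

end Cfsg.Lib.RealSize
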