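import Cfsg.Agent.RealSize.Basic
import Cfsg.Agent.SolvStruct.Zipper

/-!
# Translates of the fixed space of an involution

For an involution `u`, a cyclic group of odd order inverted by `u`, maximal such, translates the fixed
space of `u` to a partition of the non-zero vectors; so an element inverted by an involution has a
centraliser without involutions.
-/

set_option autoImplicit false
set_option linter.style.haveILetI false
set_option linter.unusedSectionVars false

namespace Cfsg.Lib.RealSize.Spread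

open Subgroup MulAction

variable {H V : Type*} [Group H] [Finite H] [AddCommGroup V] [Finite V] [DistribMulAction H V]
  [FaithfulSMul H V]

theorem card_ne_zero_add_one (X : Type*) [AddCommGroup X] [Finite X] :
    Nat.card {x : X // x ≠ 0} + 1 = Nat.card X := by
  classical
  haveI := Fintype.ofFinite X
  rw [Nat.card_eq_fintype_card, Nat.card_eq_fintype_card, Fintype.card_subtype_compl, Fintype.card_subtype_eq]
  have : 0 < Fintype.card X := Fintype.card_pos
  omega

/-- The elements `z ^ i * f ^ j`. -/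
def pairGroup (z f : H) (hc : Commute z f) : Subgroup H where
  carrier := {a | ∃ i j : ℤ, a = z ^ i * f ^ j}
  one_mem' := ⟨0, 0, by simp⟩
  mul_mem' := by
    rintro a b ⟨i, j, rfl⟩ ⟨k, l, rfl⟩
    refine ⟨i + k, j + l, ?_⟩
    have h := (hc.zpow_zpow k j).eq
    rw [zpow_add, zpow_add, mul_assoc (z ^ i) (f ^ j), ← mul_assoc (f ^ j), ← h]
    simp only [mul_assoc]
  inv_mem' := by
    rintro a ⟨i, j, rfl⟩
    exact ⟨-i, -j, by rw [mul_inv_rev, zpow_neg, zpow_neg]; exact ((hc.zpow_zpow i j).inv_inv).eq.symm⟩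

/-- An element inverted by `u` and commuting with a maximal inverted `z` is a power of `z`. -/
theorem mem_zpowers_of_commute (S : Spread H V) [Nontrivial V] {u : H} (hu : Invol u) {z f : H}
    (hzo : Odd (orderOf z)) (hz : u * z * u = z⁻¹) (hfo : Odd (orderOf f)) (hf : u * f * u = f⁻¹)
    (hc : Commute z f)
    (hmax : ∀ z' : H, Odd (orderOf z') → u * z' * u = z'⁻¹ → zpowers z ≤ zpowers z' →
      zpowers z' ≤ zpowers z) : f ∈ zpowers z := by
  set B := pairGroup z f hc with hB
  have hinv : ∀ a ∈ B, u * a * u = a⁻¹ := by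
    rintro a ⟨i, j, rfl⟩
    calc u * (z ^ i * f ^ j) * u = (u * z ^ i * u) * (u * f ^ j * u) := by
          rw [show (u * z ^ i * u) * (u * f ^ j * u) = u * z ^ i * (u * u) * f ^ j * u by group, hu.1, mul_one]
          group
      _ = (z ^ i * f ^ j)⁻¹ := by
          rw [invert_zpow hu.1 hz, invert_zpow hu.1 hf, mul_inv_rev]
          exact ((hc.zpow_zpow i j).inv_inv).eq
  have hodd : ∀ a ∈ B, Odd (orderOf a) := by
    rintro a ⟨i, j, rfl⟩
    refine (hzo.mul hfo).of_dvd_nat (orderOf_dvd_of_pow_eq_one ?_)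
    rw [(hc.zpow_zpow i j).mul_pow, ← zpow_natCast, ← zpow_mul, mul_comm i, zpow_mul, zpow_natCast, pow_mul,
      pow_orderOf_eq_one, one_pow, one_zpow, one_mul, ← zpow_natCast, ← zpow_mul, mul_comm j, zpow_mul,
      zpow_natCast, mul_comm (orderOf z), pow_mul, pow_orderOf_eq_one, one_pow, one_zpow]
  have hcomm : ∀ a ∈ B, ∀ b ∈ B, a * b = b * a := by
    intro a ha b hb
    have h1 := hinv _ (mul_mem ha hb)
    rw [show u * (a * b) * u = (u * a * u) * (u * b * u) by
      rw [show (u * a * u) * (u * b * u) = u * a * (u * u) * b * u by group, hu.1, mul_one]; group,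
      hinv a ha, hinv b hb, ← mul_inv_rev] at h1
    exact (inv_injective h1).symm
  have hoddB : Odd (Nat.card B) := by
    rw [← Nat.not_even_iff_odd, even_iff_two_dvd]
    intro h2
    haveI := Fact.mk Nat.prime_two
    obtain ⟨a, ha⟩ := exists_prime_orderOf_dvd_card' 2 h2
    have := hodd a a.2
    rw [Subgroup.orderOf_coe, ha] at this
    exact absurd this (by decide)
  have hcyc : IsCyclic (⊤ : Subgroup B) :=
    Cfsg.Lib.LinearPerm.OddTrans.isCyclic_of_semireg (D := B) (E := V)
      (fun e => by rw [two_nsmul]; exact S.h2 e) hoddB ⊤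
      (fun a _ b _ => Subtype.ext (hcomm a a.2 b b.2))
      (fun a _ v hv hav => by
        by_contra ha
        exact hv (S.fpf a (fun e => ha (Subtype.ext e)) (hodd a a.2)
          (isConj_inv_of_invert hu.1 (hinv a a.2)) v hav))
  obtain ⟨g', hg⟩ := hcyc.exists_generator
  set g : B := g'.1
  have hmem : ∀ a ∈ B, a ∈ zpowers (g : H) := by
    intro a ha
    obtain ⟨n, hn⟩ := hg ⟨⟨a, ha⟩, mem_top _⟩
    exact ⟨n, by simpa using congrArg (fun x : (⊤ : Subgroup B) => ((x : B) : H)) hn⟩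
  have hzB : z ∈ B := ⟨1, 0, by simp⟩
  have hfB : f ∈ B := ⟨0, 1, by simp⟩
  exact hmax g (hodd g g.2) (hinv g g.2) (zpowers_le.2 (hmem z hzB)) (hmem f hfB)

/-- The cyclic group attached to an involution `u` and an element inverted by it. -/
theorem exists_cover (S : Spread H V) [Nontrivial V] {u : H} (hu : Invol u) {y : H} (hyo : Odd (orderOf y))
    (hy1 : y ≠ 1) (hy : u * y * u = y⁻¹) :
    ∃ z : H, z ≠ 1 ∧ Odd (orderOf z) ∧ u * z * u = z⁻¹ ∧ y ∈ zpowers z ∧
      ∀ v : V, ∀ w ∈ orbit H v, u • w = w → ∃ (i : ℤ) (c : H), Commute c u ∧ v = z ^ i • c • w := by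
  classical
  haveI := Fact.mk Nat.prime_two
  obtain ⟨z, ⟨hzo, hz, hyz⟩, hzmax⟩ := (Set.toFinite
    {z : H | Odd (orderOf z) ∧ u * z * u = z⁻¹ ∧ y ∈ zpowers z}).exists_maximalFor orderOf _
    ⟨y, hyo, hy, mem_zpowers y⟩
  have hz1 : z ≠ 1 := fun e => hy1 (by rwa [e, zpowers_one_eq_bot, mem_bot] at hyz)
  have hreal : IsConj z z⁻¹ := isConj_inv_of_invert hu.1 hz
  have hmax : ∀ z' : H, Odd (orderOf z') → u * z' * u = z'⁻¹ → zpowers z ≤ zpowers z' →
      zpowers z' ≤ zpowers z := by
    intro z' hzo' hz' hle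
    have h1 : orderOf z ≤ orderOf z' := by
      rw [← Nat.card_zpowers, ← Nat.card_zpowers]; exact card_le_of_le hle
    have h2 := hzmax ⟨hzo', hz', hle hyz⟩ h1
    exact (eq_of_le_of_card_ge hle (by rw [Nat.card_zpowers, Nat.card_zpowers]; exact h2)).ge
  refine ⟨z, hz1, hzo, hz, hyz, ?_⟩
  set Z := zpowers z with hZ
  have hu' : u⁻¹ = u := hu.inv
  -- every element centralising `z` is a power of `z` times one centralising `z` and `u`
  have key : ∀ m : H, Commute m z → ∃ j : ℤ, u * m * u = z ^ j * m := by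
    set Nz : Subgroup H := normalizer (Z : Set H) with hNz
    have huN : u ∈ Nz := Cfsg.Lib.SolvStruct.mem_normalizer_of_conj_smul_le (by
      rintro _ ⟨a, ⟨i, rfl⟩, rfl⟩
      refine ⟨-i, ?_⟩
      show z ^ (-i) = u * z ^ i * u⁻¹
      rw [hu', invert_zpow hu.1 hz, zpow_neg])
    have hmN : ∀ m : H, Commute m z → m ∈ Nz := fun m hm =>
      centralizer_le_normalizer (s := (Z : Set H)) (mem_centralizer_iff.2 fun a ha => by
        obtain ⟨i, rfl⟩ := ha
        exact (hm.zpow_right i).eq.symm)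
    haveI : (Z.subgroupOf Nz).Normal := normal_in_normalizer
    set q := QuotientGroup.mk' (Z.subgroupOf Nz)
    have hq : ∀ a : Nz, q a = 1 ↔ (a : H) ∈ Z := fun a => by
      rw [QuotientGroup.mk'_apply, QuotientGroup.eq_one_iff, mem_subgroupOf]
    have hqu : q ⟨u, huN⟩ * q ⟨u, huN⟩ = 1 := by
      rw [← map_mul, hq]
      show u * u ∈ Z
      rw [hu.1]; exact one_mem Z
    have hcore : q ⟨u, huN⟩ ∈ Cfsg.pCore 2 (Nz ⧸ Z.subgroupOf Nz) := by
      by_contra hnot
      obtain ⟨x, hx1, hxo, hx⟩ := Cfsg.Agent.S3195.exists_inverted hqu hnot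
      obtain ⟨⟨x, hxN⟩, rfl⟩ := QuotientGroup.mk'_surjective _ x
      have hc : x * u * x * u ∈ Z := by
        have h1 : q (⟨x, hxN⟩ * ⟨u, huN⟩ * ⟨x, hxN⟩ * ⟨u, huN⟩) = 1 := by
          rw [map_mul, map_mul, map_mul, mul_assoc _ (q ⟨x, hxN⟩), mul_assoc _ (q ⟨u, huN⟩), ← mul_assoc (q ⟨u, huN⟩),
            hx, mul_inv_cancel]
        exact (hq _).1 h1
      obtain ⟨n, hn⟩ : ∃ n, z ^ (n : ℤ) = x * z * x⁻¹ := (mem_normalizer_iff.1 hxN z).1 (mem_zpowers z)
      have hcz : Commute (x * u * x * u) z := by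
        obtain ⟨i, hi⟩ := hc
        exact hi ▸ (Commute.refl z).zpow_left i
      have hx2 : Commute (x * x) z := by
        have h1 : (x * u * x * u) * z * (x * u * x * u)⁻¹ = z := by rw [hcz.eq, mul_inv_cancel_right]
        have h2 : (x * u * x * u) * z * (x * u * x * u)⁻¹ = (x * x) * z * (x * x)⁻¹ := by
          calc (x * u * x * u) * z * (x * u * x * u)⁻¹
              = x * (u * (x * (u * z * u⁻¹) * x⁻¹) * u⁻¹) * x⁻¹ := by group
            _ = x * (u * (x * z * x⁻¹)⁻¹ * u) * x⁻¹ := by rw [hu', hz]; group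
            _ = x * (x * z * x⁻¹) * x⁻¹ := by
                rw [← hn, ← zpow_neg, invert_zpow hu.1 hz, zpow_neg, inv_inv]
            _ = (x * x) * z * (x * x)⁻¹ := by group
        exact mul_inv_eq_iff_eq_mul.1 (h2.symm.trans h1)
      have hxn : x ^ orderOf (q ⟨x, hxN⟩) ∈ Z := by
        have := (hq (⟨x, hxN⟩ ^ orderOf (q ⟨x, hxN⟩))).1 (by rw [map_pow, pow_orderOf_eq_one])
        simpa using this
      have hxord : Odd (orderOf x) := by
        refine (hxo.mul hzo).of_dvd_nat (orderOf_dvd_of_pow_eq_one ?_)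
        obtain ⟨i, hi⟩ := hxn
        rw [pow_mul, ← hi, ← zpow_natCast, ← zpow_mul, mul_comm, zpow_mul, zpow_natCast, pow_orderOf_eq_one,
          one_zpow]
      have hxz : Commute x z := (Cfsg.Agent.S3195.commute_of_sq hxord hx2.symm).symm
      have hxc : x * u * x * u = 1 := by
        have hcx : u * (x * u * x * u) * u = x * u * x * u := by
          obtain ⟨i, hi⟩ := hc
          have hcomm : Commute x (x * u * x * u) := hi ▸ hxz.zpow_right i
          calc u * (x * u * x * u) * u = x⁻¹ * (x * u * x * u) * (x * (u * u)) := by group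
            _ = x⁻¹ * ((x * u * x * u) * x) := by rw [hu.1]; group
            _ = x * u * x * u := by rw [← hcomm.eq, inv_mul_cancel_left]
        obtain ⟨i, hi⟩ := hc
        have hio : Odd (orderOf (z ^ i)) := hzo.of_dvd_nat (orderOf_dvd_of_pow_eq_one (by
          rw [← zpow_natCast, ← zpow_mul, mul_comm, zpow_mul, zpow_natCast, pow_orderOf_eq_one, one_zpow]))
        rw [← hi] at hcx ⊢
        exact Cfsg.Agent.S3195.eq_one_of_inv_eq hio (by rw [← invert_zpow hu.1 hz i, hcx])
      have hxinv : u * x * u = x⁻¹ := by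
        rw [eq_inv_iff_mul_eq_one, mul_assoc, mul_assoc]
        rw [mul_assoc, mul_assoc] at hxc
        exact mul_eq_one_comm.1 (by simpa [mul_assoc] using hxc)
      exact hx1 ((hq _).2 (mem_zpowers_of_commute S hu hzo hz hxord hxinv hxz.symm hmax))
    -- the part of the core inside the centraliser of `z` is a two-group by `Z`
    intro m hm
    set D : Subgroup Nz := (Cfsg.pCore 2 (Nz ⧸ Z.subgroupOf Nz)).comap q ⊓
      (centralizer ({z} : Set H)).subgroupOf Nz with hD
    have hDmem : ∀ a : Nz, a ∈ D ↔ q a ∈ Cfsg.pCore 2 (Nz ⧸ Z.subgroupOf Nz) ∧ Commute (a : H) z := fun a => by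
      rw [hD, mem_inf, mem_comap, mem_subgroupOf, mem_centralizer_singleton_iff]
      exact Iff.rfl
    have hDZ : ∀ a ∈ D, (a : H) ∈ Z := by
      let φ : D →* Cfsg.pCore 2 (Nz ⧸ Z.subgroupOf Nz) :=
        (q.comp D.subtype).codRestrict _ fun a => ((hDmem a).1 a.2).1
      haveI : Group.IsNilpotent (Cfsg.pCore 2 (Nz ⧸ Z.subgroupOf Nz)) :=
        (Cfsg.Lib.Components.isPGroup_pCore 2).isNilpotent
      haveI hnil : Group.IsNilpotent D := Subgroup.isNilpotent_of_ker_le_center φ (by
        intro a ha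
        have ha' : ((a : Nz) : H) ∈ Z := (hq a).1 (congrArg Subtype.val ha)
        obtain ⟨i, hi⟩ := ha'
        rw [mem_center_iff]
        intro b
        change z ^ i = _ at hi
        refine Subtype.ext (Subtype.ext ?_)
        show ((b : Nz) : H) * ((a : Nz) : H) = ((a : Nz) : H) * ((b : Nz) : H)
        rw [← hi]
        exact (((hDmem b).1 b.2).2.zpow_right i).eq)
      let P : Sylow 2 D := default
      haveI : (P : Subgroup D).Normal :=
        Sylow.normal_of_normalizerCondition Group.normalizerCondition_of_isNilpotent P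
      have hEl : ∀ a : D, El2 a → a ∈ (P : Subgroup D) := by
        intro a ⟨k, hk⟩
        obtain ⟨j, -, hj⟩ := (Nat.dvd_prime_pow Nat.prime_two).1 (orderOf_dvd_of_pow_eq_one hk)
        obtain ⟨P', hP'⟩ := (IsPGroup.of_card (n := j) (by rw [Nat.card_zpowers, hj]) :
          IsPGroup 2 (zpowers a)).exists_le_sylow
        haveI := Sylow.unique_of_normal P inferInstance
        rw [Subsingleton.elim P P']
        exact hP' (mem_zpowers a)
      set E : Subgroup H := (P : Subgroup D).map (Nz.subtype.comp D.subtype) with hE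
      have hEz : ∀ a ∈ E, Commute a z := by
        rintro _ ⟨a, -, rfl⟩
        exact ((hDmem a).1 a.2).2
      have hE1 : ∀ a ∈ E, a = 1 := by
        intro a ha
        refine eq_of_smul_eq_smul (α := V) fun v => ?_
        rw [one_smul]
        refine odd_fix (M := centralizer ({z} : Set H)) (P.2.map _)
          (fun a ha => mem_centralizer_singleton_iff.2 (hEz a ha).eq) ?_ ?_ a ha
        · rintro c hc _ ⟨b, hb, rfl⟩
          have hcz : Commute c z := mem_centralizer_singleton_iff.1 hc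
          have hcN := hmN c hcz
          have hbD : (⟨c, hcN⟩ : Nz) * (b : Nz) * ⟨c, hcN⟩⁻¹ ∈ D := (hDmem _).2
            ⟨by
              rw [map_mul, map_mul, map_inv]
              exact (inferInstance : (Cfsg.pCore 2 (Nz ⧸ Z.subgroupOf Nz)).Normal).conj_mem _
                ((hDmem b).1 b.2).1 _,
             by
              show Commute (c * ((b : Nz) : H) * c⁻¹) z
              exact (hcz.mul_left ((hDmem b).1 b.2).2).mul_left hcz.inv_left⟩
          refine ⟨⟨_, hbD⟩, hEl _ ?_, rfl⟩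
          obtain ⟨k, hk⟩ := el2_of_pgroup P.2 hb
          refine ⟨k, Subtype.ext ?_⟩
          push_cast
          rw [conj_pow, show ((b : Nz)) ^ 2 ^ k = 1 from by
            have := congrArg Subtype.val hk; simpa using this, mul_one, mul_inv_cancel]
        · have horb : orbit (centralizer ({z} : Set H)) v = orbit H v := Set.ext fun w =>
            ⟨fun ⟨g, hg⟩ => ⟨g, hg⟩, fun ⟨g, hg⟩ => by
              obtain ⟨c, hc, hcv⟩ := S.trans z hz1 hzo hreal v g
              exact ⟨⟨c, mem_centralizer_singleton_iff.2 hc.eq⟩, hcv.trans hg⟩⟩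
          rw [horb]
          exact S.orbit_odd v
      intro a ha
      obtain ⟨k, hk⟩ := (Cfsg.Lib.Components.isPGroup_pCore 2) ⟨q a, ((hDmem a).1 ha).1⟩
      have hak : (a : H) ^ 2 ^ k ∈ Z := by
        have := (hq (a ^ 2 ^ k)).1 (by simpa using congrArg Subtype.val hk)
        simpa using this
      obtain ⟨i, hi⟩ := hak
      have hN1 : ((a : H) ^ orderOf z) ^ 2 ^ k = 1 := by
        rw [← pow_mul, mul_comm, pow_mul, ← hi, ← zpow_natCast, ← zpow_mul, mul_comm, zpow_mul,
          zpow_natCast, pow_orderOf_eq_one, one_zpow]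
      have h1 : (a : H) ^ orderOf z = 1 := hE1 _ ⟨(⟨a, ha⟩ : D) ^ orderOf z,
        hEl _ ⟨k, Subtype.ext (Subtype.ext (by simpa using hN1))⟩, by simp⟩
      obtain ⟨j, hj⟩ := exists_pow_eq_self_of_coprime (x := (a : H)) (n := 2 ^ k)
        (Nat.Coprime.pow_left k ((Nat.coprime_two_left.2 hzo).coprime_dvd_right (orderOf_dvd_of_pow_eq_one h1)))
      rw [← hj, ← hi]
      exact pow_mem (zpow_mem (mem_zpowers z) i) j
    have hm' : Commute (u * m * u) z := by
      have h1 : Commute (u * m * u) (u * z⁻¹ * u) := by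
        show u * m * u * (u * z⁻¹ * u) = u * z⁻¹ * u * (u * m * u)
        calc u * m * u * (u * z⁻¹ * u) = u * m * (u * u) * z⁻¹ * u := by group
          _ = u * (m * z⁻¹) * u := by rw [hu.1]; group
          _ = u * (z⁻¹ * m) * u := by rw [hm.inv_right.eq]
          _ = u * z⁻¹ * (u * u) * m * u := by rw [hu.1]; group
          _ = u * z⁻¹ * u * (u * m * u) := by group
      rwa [show u * z⁻¹ * u = z by
        rw [← zpow_neg_one, invert_zpow hu.1 hz, zpow_neg_one, inv_inv]] at h1
    have hcD : (⟨u, huN⟩ * ⟨m, hmN m hm⟩ * ⟨u, huN⟩ * ⟨m, hmN m hm⟩⁻¹ : Nz) ∈ D := by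
      refine (hDmem _).2 ⟨?_, hm'.mul_left hm.inv_left⟩
      rw [map_mul, map_mul, map_mul, map_inv,
        mul_assoc (q ⟨u, huN⟩ * q ⟨m, hmN m hm⟩), mul_assoc]
      refine mul_mem hcore ?_
      rw [← mul_assoc]
      exact (inferInstance : (Cfsg.pCore 2 (Nz ⧸ Z.subgroupOf Nz)).Normal).conj_mem _ hcore _
    obtain ⟨j, hj⟩ := hDZ _ hcD
    refine ⟨j, ?_⟩
    have hj' : z ^ j = u * m * u * m⁻¹ := hj
    rw [hj', inv_mul_cancel_right]
  intro v w hw huw
  obtain ⟨h, hh⟩ := hw
  obtain ⟨c, hc, hcv⟩ := S.trans z hz1 hzo hreal v h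
  obtain ⟨j, hj⟩ := key c⁻¹ hc.inv_left
  obtain ⟨k, hk⟩ := odd_half (x := z) hzo
  set i : ℤ := (k : ℤ) * j with hi
  have h2i : z ^ j = z ^ i * z ^ i := by
    rw [hi, zpow_mul, zpow_natCast, ← ((Commute.refl (z ^ k))).mul_zpow, hk]
  refine ⟨-i, z ^ i * c⁻¹, ?_, ?_⟩
  · have h1 : u * (z ^ i * c⁻¹) * u = z ^ i * c⁻¹ := by
      calc u * (z ^ i * c⁻¹) * u = (u * z ^ i * u) * (u * c⁻¹ * u) := by
            rw [show (u * z ^ i * u) * (u * c⁻¹ * u) = u * z ^ i * (u * u) * c⁻¹ * u by group, hu.1]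
            group
        _ = (z ^ i)⁻¹ * (z ^ i * z ^ i * c⁻¹) := by rw [invert_zpow hu.1 hz, hj, h2i]
        _ = z ^ i * c⁻¹ := by group
    show z ^ i * c⁻¹ * u = u * (z ^ i * c⁻¹)
    calc z ^ i * c⁻¹ * u = u * (z ^ i * c⁻¹) * u * u := by rw [h1]
      _ = u * (z ^ i * c⁻¹) := by rw [mul_assoc, hu.1, mul_one]
  · have hwv : w = c • v := by rw [hcv]; exact hh.symm
    rw [mul_smul, ← mul_smul (z ^ (-i)), ← zpow_add, neg_add_cancel, zpow_zero, one_smul, hwv, inv_smul_smul]

/-- The translating cyclic group has order one more than the fixed space. -/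
theorem orderOf_cover (S : Spread H V) [Nontrivial V] {u : H} (hu : Invol u) {z : H} (hzo : Odd (orderOf z))
    (hz : u * z * u = z⁻¹)
    (hcov : ∀ v : V, ∀ w ∈ orbit H v, u • w = w → ∃ (i : ℤ) (c : H), Commute c u ∧ v = z ^ i • c • w) :
    orderOf z = Nat.card (fx V u) + 1 := by
  classical
  let Φ : zpowers z × {w : fx V u // (w : V) ≠ 0} → {v : V // v ≠ 0} := fun p =>
    ⟨(p.1 : H) • (p.2.1 : V), fun e => p.2.2 ((smul_eq_zero_iff_eq (p.1 : H)).1 e)⟩
  have hbij : Function.Bijective Φ := by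
    constructor
    · rintro ⟨⟨a, ha⟩, ⟨w, hw0⟩⟩ ⟨⟨b, hb⟩, ⟨w', hw0'⟩⟩ he
      have he' : a • (w : V) = b • (w' : V) := congrArg Subtype.val he
      obtain ⟨d, hd⟩ : (b⁻¹ * a) ∈ zpowers z := mul_mem (inv_mem hb) ha
      change z ^ d = _ at hd
      have hdw : (z ^ d) • (w : V) = w' := by rw [hd, mul_smul, he', inv_smul_smul]
      have hdw' : (z ^ d)⁻¹ • (w : V) = w' := by
        rw [← invert_zpow hu.1 hz, mul_smul, mul_smul, mem_fx.1 w.2, hdw, mem_fx.1 w'.2]
      have hd1 : z ^ d = 1 := by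
        by_contra hne
        have ho : Odd (orderOf (z ^ d)) := hzo.of_dvd_nat (orderOf_dvd_of_pow_eq_one (by
          rw [← zpow_natCast, ← zpow_mul, mul_comm, zpow_mul, zpow_natCast, pow_orderOf_eq_one, one_zpow]))
        have hinv := invert_zpow hu.1 hz d
        refine hw0 (S.fpf ((z ^ d) ^ 2) ?_ ?_ (isConj_inv_of_invert hu.1 (invert_pow hu.1 hinv 2)) w ?_)
        · exact fun e => hne (Cfsg.Agent.S3195.eq_one_of_inv_eq ho (inv_eq_of_mul_eq_one_right (by rwa [← sq])))
        · exact ho.of_dvd_nat (orderOf_pow_dvd 2)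
        · rw [sq, mul_smul, hdw, ← hdw', smul_inv_smul]
      have hab : a = b := by
        rw [hd1] at hd
        exact (inv_mul_eq_one.1 hd.symm).symm
      subst hab
      rw [smul_left_cancel_iff] at he'
      exact Prod.ext rfl (Subtype.ext (Subtype.ext he'))
    · rintro ⟨v, hv⟩
      obtain ⟨w, hw, hwu⟩ := el2_fixed_in_orbit hu.el2 (S.orbit_odd v)
      obtain ⟨i, c, hc, hvw⟩ := hcov v w hw hwu
      refine ⟨(⟨z ^ i, i, rfl⟩, ⟨⟨c • w, smul_mem_fx_of_commute hc hwu⟩, ?_⟩), Subtype.ext hvw.symm⟩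
      intro e
      exact hv (by rw [hvw, show c • w = 0 from e, smul_zero])
  have hcard := Nat.card_eq_of_bijective Φ hbij
  rw [Nat.card_prod, Nat.card_zpowers] at hcard
  have h1 := @card_ne_zero_add_one
  have e1 : Nat.card {w : fx V u // (w : V) ≠ 0} = Nat.card {w : fx V u // w ≠ 0} :=
    Nat.card_congr (Equiv.subtypeEquivRight fun w => by simp)
  have hq := h1 (fx V u)
  have hV := h1 V
  rw [e1] at hcard
  rw [← S.card_fx hu, ← hcard] at hV
  have hgt : 1 < Nat.card (fx V u) := S.one_lt_card_fx hu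
  obtain ⟨r, hr⟩ : ∃ r, Nat.card {w : fx V u // w ≠ 0} = r := ⟨_, rfl⟩
  rw [hr] at hq hV
  rw [← hq] at hV hgt ⊢
  have hrr : orderOf z * r = (r + 2) * r := by nlinarith
  exact Nat.eq_of_mul_eq_mul_right (by omega) hrr

/-- No involution commutes with an element inverted by an involution. -/
theorem not_commute (S : Spread H V) [Nontrivial V] {u y e : H} (hu : Invol u) (hyo : Odd (orderOf y))
    (hy1 : y ≠ 1) (hy : u * y * u = y⁻¹) (he : Invol e) (hey : Commute e y) : False := by
  obtain ⟨z, hz1, hzo, hz, hyz, hcov⟩ := S.exists_cover hu hyo hy1 hy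
  have hord := S.orderOf_cover hu hzo hz hcov
  have hdz : orderOf y ∣ Nat.card (fx V u) + 1 := by
    rw [← hord, ← Nat.card_zpowers z]
    exact Subgroup.orderOf_dvd_natCard _ hyz
  have hde : orderOf y ∣ Nat.card {w : fx V e // (w : V) ≠ 0} := by
    rw [← Nat.card_zpowers]
    letI : MulAction (zpowers y) {w : fx V e // (w : V) ≠ 0} :=
      { smul := fun a w => ⟨⟨(a : H) • (w.1 : V), smul_mem_fx_of_commute (by
            obtain ⟨i, hi⟩ := a.2
            exact hi ▸ (hey.symm.zpow_left i)) w.1.2⟩,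
          fun h => w.2 ((smul_eq_zero_iff_eq (a : H)).1 h)⟩
        one_smul := fun w => Subtype.ext (Subtype.ext (one_smul H (w.1 : V)))
        mul_smul := fun a b w => Subtype.ext (Subtype.ext (mul_smul (a : H) (b : H) (w.1 : V))) }
    refine Cfsg.Lib.PGroups.card_dvd_of_free fun a w haw => ?_
    by_contra hne
    obtain ⟨i, hi⟩ := a.2
    refine w.2 (S.fpf a (fun h => hne (Subtype.ext h)) ?_ ?_ _ (congrArg (fun x => ((x : fx V e) : V)) (congrArg Subtype.val haw)))
    · exact hyo.of_dvd_nat (by rw [← Nat.card_zpowers y]; exact Subgroup.orderOf_dvd_natCard _ a.2)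
    · rw [← hi]
      exact isConj_inv_of_invert hu.1 (invert_zpow hu.1 hy i)
  have heq : Nat.card (fx V e) = Nat.card (fx V u) :=
    Nat.mul_self_inj.1 ((S.card_fx he).trans (S.card_fx hu).symm)
  have hw : Nat.card {w : fx V e // (w : V) ≠ 0} + 1 = Nat.card (fx V e) := by
    rw [← card_ne_zero_add_one (fx V e)]
    exact congrArg (· + 1) (Nat.card_congr (Equiv.subtypeEquivRight fun w => by simp))
  obtain ⟨a, ha⟩ := hdz
  obtain ⟨b, hb⟩ := hde
  rw [← heq, ← hw, hb] at ha
  have h2 : orderOf y ∣ 2 := by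
    have h3 : orderOf y ∣ orderOf y * b + 1 + 1 := ⟨a, ha⟩
    rwa [add_assoc, Nat.dvd_add_right (dvd_mul_right _ b)] at h3
  rcases (Nat.dvd_prime Nat.prime_two).1 h2 with h | h
  · exact hy1 (orderOf_eq_one_iff.1 h)
  · rw [h] at hyo
    exact absurd hyo (by decide)

end Cfsg.Lib.RealSize.Spread
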