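import Cfsg.Agent.RealSize.Core

/-!
# Real classes split by a set of primes: removing the odd core
-/

set_option autoImplicit false
set_option linter.style.haveILetI false
set_option linter.unusedSectionVars false

namespace Cfsg.Lib.RealSize

open Subgroup Cfsg.Lib.ClassSize

universe u

variable {G : Type u} [Group G] [Finite G]

/-- Solvability, and the primes of the subgroup generated by the two-elements. -/
theorem split_main {π : Set ℕ} (S : Split G π) {t : G} (ht : t * t = 1) (ht1 : cs t ≠ 1)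
    (htπ : PiSize π t) : Group.IsSolvable G ∧
      ∀ p : ℕ, p.Prime → p ≠ 2 → p ∉ π → ¬ p ∣ Nat.card (el2Closure G) := by
  classical
  set N : Subgroup G := Cfsg.pPrimeCore 2 G with hN
  haveI : N.Normal := Cfsg.Lib.Components.normal_of_mem_sSup_normal fun M hM => hM.1
  have hNodd : Odd (Nat.card N) := Nat.coprime_two_right.1 (Cfsg.Lib.Components.coprime_card_pPrimeCore 2)
  set q := QuotientGroup.mk' N with hq
  have hqs : Function.Surjective q := QuotientGroup.mk'_surjective N
  have hker : Odd (Nat.card q.ker) := by rw [hq, QuotientGroup.ker_mk']; exact hNodd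
  haveI : Group.IsSolvable N := Cfsg.Agent.PF.isSolvable_of_odd _ hNodd
  obtain ⟨hsolC, P, hPt, hP⟩ := two_closed S ht ht1 htπ
  suffices h : Group.IsSolvable (G ⧸ N) ∧
      ∀ p : ℕ, p.Prime → p ≠ 2 → p ∉ π → ¬ p ∣ Nat.card (el2Closure (G ⧸ N)) by
    haveI := h.1
    refine ⟨Group.isSolvable_of_ker_le_range N.subtype q (by simp [hq]), fun p hp hp2 hpπ => ?_⟩
    refine not_dvd_el2Closure hp hp2 N inferInstance hNodd (fun s hs => ?_) ?_
    · haveI := Fact.mk Nat.prime_two
      obtain ⟨j, -, hj⟩ := (Nat.dvd_prime_pow Nat.prime_two).1 (orderOf_dvd_of_pow_eq_one hs.choose_spec)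
      obtain ⟨P1, hP1⟩ := (IsPGroup.of_card (n := j) (by rw [Nat.card_zpowers, hj]) :
        IsPGroup 2 (zpowers s)).exists_le_sylow
      obtain ⟨a, ha⟩ := MulAction.exists_smul_eq G P P1
      have hs' : a⁻¹ * s * a ∈ (P : Subgroup G) := by
        have h2 := hP1 (mem_zpowers s)
        rw [← ha, Sylow.smul_def, Sylow.pointwise_smul_def, Subgroup.mem_pointwise_smul_iff_inv_smul_mem] at h2
        simpa [MulAut.smul_def] using h2
      refine ⟨centralizer ({a * t * a⁻¹} : Set G) ⊓ N, inf_le_right, ?_, ?_⟩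
      · rw [inf_relIndex_right]
        intro hd
        refine hpπ (htπ p hp (hd.trans ?_))
        rw [← cs_conj t a]
        rw [← relIndex_sup_eq]
        exact relIndex_dvd_index_of_le le_sup_left
      · rintro x ⟨hxC, hxN⟩
        have hxt : Commute (a⁻¹ * x * a) t := by
          show a⁻¹ * x * a * t = t * (a⁻¹ * x * a)
          calc a⁻¹ * x * a * t = a⁻¹ * (x * (a * t * a⁻¹)) * a := by group
            _ = a⁻¹ * ((a * t * a⁻¹) * x) * a := by rw [(mem_cent.1 hxC).eq]
            _ = t * (a⁻¹ * x * a) := by group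
        have hs2 := hPt _ hs'
        set x' := a⁻¹ * x * a
        set s' := a⁻¹ * s * a
        have hx'N : x' ∈ N := by
          have := (inferInstance : N.Normal).conj_mem x hxN a⁻¹
          rwa [inv_inv] at this
        have h3 : x' * s' * x'⁻¹ ∈ (P : Subgroup G) := by
          refine hP _ ((hxt.mul_left hs2).mul_left hxt.inv_left) ?_
          obtain ⟨b, hb⟩ := el2_of_pgroup P.2 hs'
          exact ⟨b, by rw [conj_pow, hb]; group⟩
        have h4 : x' * s' * x'⁻¹ * s'⁻¹ ∈ N := by
          rw [show x' * s' * x'⁻¹ * s'⁻¹ = x' * (s' * x'⁻¹ * s'⁻¹) by group]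
          exact mul_mem hx'N ((inferInstance : N.Normal).conj_mem _ (inv_mem hx'N) s')
        have h5 : x' * s' * x'⁻¹ * s'⁻¹ = 1 :=
          eq_one_of_odd_el2 (hNodd.of_dvd_nat (orderOf_dvd_natCard N h4))
            (el2_of_pgroup P.2 (mul_mem h3 (inv_mem hs')))
        show x * s = s * x
        calc x * s = a * (x' * s' * x'⁻¹ * s'⁻¹) * (s' * x') * a⁻¹ := by simp only [x', s']; group
          _ = s * x := by rw [h5]; simp only [x', s']; group
    · rw [← QuotientGroup.ker_mk' N, relIndex_ker]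
      intro hd
      exact h.2 p hp hp2 hpπ (hd.trans ((Nat.dvd_refl _).trans (card_dvd_of_le (el2Closure_map_le q))))
  have hdvd : ∀ x : G, cs (q x) ∣ cs x := fun x => by
    refine (index_dvd_of_le ?_).trans (index_map_dvd _ hqs)
    rintro _ ⟨c, hc, rfl⟩
    exact mem_cent.2 ((mem_cent.1 hc).map q)
  have htπ' : PiSize π (q t) := fun r hr hd => htπ r hr (hd.trans (hdvd t))
  have ht' : q t * q t = 1 := by rw [← map_mul, ht, map_one]
  by_cases h1 : cs (q t) = 1
  · -- the centraliser of `t` covers the quotient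
    haveI := hsolC
    have hsurj : Function.Surjective (q.comp (centralizer ({t} : Set G)).subtype) := fun x => ?_
    · refine ⟨Group.isSolvable_of_surjective hsurj, fun p hp hp2 _ hd => ?_⟩
      have hle : el2Closure (G ⧸ N) ≤ (P : Subgroup G).map q := (closure_le _).2 fun s hs => by
        obtain ⟨⟨c, hc⟩, rfl⟩ := hsurj s
        obtain ⟨k, hk⟩ := hs
        obtain ⟨a, m, hm, ham⟩ := Nat.exists_eq_two_pow_mul_odd (n := orderOf c) (orderOf_pos c).ne'
        obtain ⟨j, hj⟩ := exists_pow_eq_self_of_coprime (x := q c) (n := m)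
          ((Nat.Coprime.pow_right k (Nat.coprime_two_right.2 hm)).coprime_dvd_right (orderOf_dvd_of_pow_eq_one hk))
        exact ⟨(c ^ m) ^ j, hP _ (((mem_cent.1 hc).pow_left m).pow_left j) ⟨a, by
          rw [← pow_mul, ← pow_mul, show m * (j * 2 ^ a) = 2 ^ a * m * j by ring, ← ham, pow_mul, pow_orderOf_eq_one,
            one_pow]⟩, by rw [map_pow, map_pow]; exact hj⟩
      haveI := Fact.mk Nat.prime_two
      obtain ⟨k, hk⟩ := (P.2.map q).exists_card_eq
      have h2 := hd.trans (card_dvd_of_le hle)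
      rw [hk] at h2
      exact hp2 ((Nat.prime_dvd_prime_iff_eq hp Nat.prime_two).1 (hp.dvd_of_dvd_pow h2))
    obtain ⟨g, rfl⟩ := hqs x
    have hti : t⁻¹ = t := inv_eq_of_mul_eq_one_right ht
    set d := g * t * g⁻¹ * t with hd
    have hdN : d ∈ N := by
      refine (QuotientGroup.eq_one_iff _).1 ?_
      show q d = 1
      have hc := mem_center_iff.1 (cs_eq_one_iff.1 h1) (q g)
      rw [hd, map_mul, map_mul, map_mul, map_inv, hc, mul_inv_cancel_right, ht']
    have hdo : Odd (orderOf d) := hNodd.of_dvd_nat (orderOf_dvd_natCard N hdN)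
    have hdinv : t * d * t = d⁻¹ := by
      rw [hd, mul_inv_rev, mul_inv_rev, mul_inv_rev, inv_inv, hti,
        show t * (g * t * g⁻¹ * t) * t = t * (g * t * g⁻¹) * (t * t) by group, ht]
      group
    obtain ⟨k, hk⟩ := odd_half hdo
    set e := d ^ k with he
    have h2 : g * t * g⁻¹ = e * e * t := by rw [hk, hd, mul_assoc _ t t, ht, mul_one]
    have h3 : e * t * e⁻¹ = e * e * t := by
      rw [← invert_pow ht hdinv k, ← he, show e * t * (t * e * t) = e * (t * t) * e * t by group, ht, mul_one]
    refine ⟨⟨e⁻¹ * g, mem_cent.2 ?_⟩, ?_⟩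
    · show e⁻¹ * g * t = t * (e⁻¹ * g)
      calc e⁻¹ * g * t = e⁻¹ * (g * t * g⁻¹) * g := by group
        _ = e⁻¹ * (e * t * e⁻¹) * g := by rw [h2, h3]
        _ = t * (e⁻¹ * g) := by group
    · show q (e⁻¹ * g) = q g
      rw [map_mul, show q e⁻¹ = 1 from (QuotientGroup.eq_one_iff _).2 (inv_mem (pow_mem hdN k)), one_mul]
  · refine core_main (π := π) ⟨S.two, fun x hx => ?_⟩ (fun M hM hMo => ?_) ht' h1 htπ'
    · obtain ⟨y, rfl, hy⟩ := exists_real_lift q hqs hker hx
      rcases S.pure y hy with h | h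
      · exact Or.inl fun r hr hd => h r hr (hd.trans (hdvd y))
      · exact Or.inr fun r hr hd => h r hr (hd.trans (hdvd y))
    · haveI := hM
      have hodd : Odd (Nat.card (M.comap q)) := by
        rw [← Nat.not_even_iff_odd, even_iff_two_dvd]
        intro h2
        haveI := Fact.mk Nat.prime_two
        obtain ⟨⟨a, ha⟩, hao⟩ := exists_prime_orderOf_dvd_card' 2 h2
        rw [← Subgroup.orderOf_coe] at hao
        have h3 : orderOf (q a) ∣ 2 := hao ▸ orderOf_map_dvd q a
        have h4 : Odd (orderOf (q a)) := hMo.of_dvd_nat (orderOf_dvd_natCard M ha)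
        have h5 : q a = 1 := orderOf_eq_one_iff.1 (Nat.eq_one_of_dvd_coprimes (Nat.coprime_two_right.2 h4) dvd_rfl h3)
        have h6 : Odd (orderOf a) := hNodd.of_dvd_nat (orderOf_dvd_natCard N ((QuotientGroup.eq_one_iff a).1 h5))
        rw [hao] at h6
        exact absurd h6 (by decide)
      have hle : M.comap q ≤ N := Cfsg.Lib.Components.le_pPrimeCore (Nat.coprime_two_right.2 hodd)
      rw [eq_bot_iff]
      intro x hx
      obtain ⟨g, rfl⟩ := hqs x
      exact mem_bot.2 ((QuotientGroup.eq_one_iff g).2 (hle hx))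

/-- **A finite group with a split of the real class sizes is solvable.** -/
theorem isSolvable_of_split {π : Set ℕ} (S : Split G π) {t : G} (ht : t * t = 1) (ht1 : cs t ≠ 1)
    (htπ : PiSize π t) : Group.IsSolvable G := (split_main S ht ht1 htπ).1

end Cfsg.Lib.RealSize
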