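import Cfsg.Agent.RealSize.Main

/-!
# Real class sizes split by a set of primes: the part generated by the two-elements
-/

set_option autoImplicit false
set_option linter.style.haveILetI false
set_option linter.unusedSectionVars false

namespace Cfsg.Lib.RealSize

open Subgroup Cfsg.Lib.ClassSize

universe u

variable {G : Type u} [Group G] [Finite G]

theorem setOf_orderOf_two_pow : {g : G | ∃ k : ℕ, orderOf g = 2 ^ k} = {g : G | El2 g} := by
  ext g
  exact ⟨fun ⟨k, hk⟩ => ⟨k, by rw [← hk, pow_orderOf_eq_one]⟩, fun ⟨k, hk⟩ =>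
    ((Nat.dvd_prime_pow Nat.prime_two).1 (orderOf_dvd_of_pow_eq_one hk)).imp fun j hj => hj.2⟩

/-- Two commuting involutions with coprime non-trivial classes of odd size whose centralisers contain a
normal Sylow `2`-subgroup: the size of their product is not coprime to that of the first. -/
theorem not_coprime_of_normal_sylow {P : Sylow 2 G} [(P : Subgroup G).Normal] {a b : G} (ha : a * a = 1)
    (hb : b * b = 1) (hao : Odd (cs a)) (hbo : Odd (cs b)) (ha1 : cs a ≠ 1) (hcop : (cs a).Coprime (cs b)) :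
    ¬ (cs a).Coprime (cs (a * b)) := by
  classical
  haveI := Fact.mk Nat.prime_two
  intro hc
  haveI := Sylow.unique_of_normal P inferInstance
  have hP : ∀ x : G, El2 x → x ∈ (P : Subgroup G) := by
    intro x ⟨k, hk⟩
    obtain ⟨j, -, hj⟩ := (Nat.dvd_prime_pow Nat.prime_two).1 (orderOf_dvd_of_pow_eq_one hk)
    obtain ⟨R, hR⟩ := (IsPGroup.of_card (n := j) (by rw [Nat.card_zpowers, hj]) :
      IsPGroup 2 (zpowers x)).exists_le_sylow
    rw [Subsingleton.elim R P] at hR
    exact hR (mem_zpowers x)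
  have hcent : ∀ x : G, Odd (cs x) → ∀ y ∈ (P : Subgroup G), Commute y x := by
    intro x hx y hy
    have h1 : (centralizer ({x} : Set G)).relIndex (P : Subgroup G) ∣ cs x := by
      rw [← relIndex_sup_eq]; exact relIndex_dvd_index_of_le le_sup_left
    obtain ⟨n, hn⟩ := P.2.exists_card_eq
    obtain ⟨k, -, hk⟩ := (Nat.dvd_prime_pow Nat.prime_two).1 (hn ▸ relIndex_dvd_card _ (P : Subgroup G))
    have hk0 : k = 0 := by
      by_contra h0
      exact Nat.two_dvd_ne_zero.2 (Nat.odd_iff.1 hx) (((hk ▸ dvd_pow_self 2 h0)).trans h1)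
    rw [hk0, pow_zero] at hk
    exact mem_cent.1 (relIndex_eq_one.1 hk hy)
  have hab : Commute a b := hcent b hbo a (hP a ⟨1, by rwa [pow_one, sq]⟩)
  have hcs : cs (a * b) = cs b := cs_mul_eq ha hab hcop hc
  apply ha1
  rw [cs_eq_one_iff, mem_center_iff]
  intro g
  by_contra hg
  set a' := g * a * g⁻¹ with ha'
  have ha'2 : a' * a' = 1 := by rw [ha', conj_mul, ha]; group
  have haa' : Commute a' a := hcent a hao a' (hP a' ⟨1, by rwa [pow_one, sq]⟩)
  have hne : a' * a ≠ 1 := by
    intro e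
    exact hg (mul_inv_eq_iff_eq_mul.1 (by
      show a' = a
      rw [eq_inv_of_mul_eq_one_left e, inv_eq_of_mul_eq_one_right ha]))
  have hd2 : (a' * a) * (a' * a) = 1 := by rw [← sq, haa'.mul_pow, sq, sq, ha'2, ha, one_mul]
  haveI : Finite (cls b) := Subtype.finite
  haveI : Finite (cls (a * b)) := Subtype.finite
  have hpair : ∀ u k : G, (u * a * u⁻¹) * (k * b * k⁻¹) ∈ cls (a * b) := by
    intro u k
    obtain ⟨m, hm1, hm2⟩ := exists_conj_pair hcop u k
    exact ⟨m, by rw [← hm1, ← hm2]; group⟩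
  let f : cls b → cls (a * b) := fun x => ⟨a' * (x : G), by
    obtain ⟨k, hk⟩ := x.2; rw [← hk]; exact hpair g k⟩
  have hf : Function.Bijective f := (Nat.bijective_iff_injective_and_card f).2
    ⟨fun x y h => Subtype.ext (mul_left_cancel (congrArg Subtype.val h)), by rw [card_cls, card_cls, hcs]⟩
  have hmap : ∀ x ∈ cls b, (a' * a) * x ∈ cls b := by
    rintro _ ⟨k, rfl⟩
    obtain ⟨y, hy⟩ := hf.2 ⟨_, hpair 1 k⟩
    have hy' : a' * (y : G) = a * (k * b * k⁻¹) := by
      have := congrArg Subtype.val hy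
      simpa [f] using this
    rw [mul_assoc, ← hy', ← mul_assoc, ha'2, one_mul]
    exact y.2
  let σ : Equiv.Perm (cls b) :=
    { toFun := fun x => ⟨(a' * a) * (x : G), hmap x x.2⟩
      invFun := fun x => ⟨(a' * a) * (x : G), hmap x x.2⟩
      left_inv := fun x => Subtype.ext (by show (a' * a) * ((a' * a) * (x : G)) = x; rw [← mul_assoc, hd2, one_mul])
      right_inv := fun x => Subtype.ext (by show (a' * a) * ((a' * a) * (x : G)) = x; rw [← mul_assoc, hd2, one_mul]) }
  have hσ : σ ^ 2 = 1 := by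
    ext x
    rw [sq, Equiv.Perm.mul_apply]
    exact congrArg _ (σ.left_inv x)
  obtain ⟨j, -, hj⟩ := (Nat.dvd_prime_pow Nat.prime_two).1
    (orderOf_dvd_of_pow_eq_one (show σ ^ 2 ^ 1 = 1 by rwa [pow_one]))
  have hZ : IsPGroup 2 (zpowers σ) := IsPGroup.of_card (n := j) (by rw [Nat.card_zpowers, hj])
  obtain ⟨x, hx⟩ := hZ.nonempty_fixed_point_of_prime_not_dvd_card (cls b)
    (by rw [card_cls]; exact Nat.two_dvd_ne_zero.2 (Nat.odd_iff.1 hbo))
  have hfix : (a' * a) * (x : G) = x := congrArg Subtype.val (hx ⟨σ, mem_zpowers σ⟩)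
  exact hne (mul_eq_right.1 hfix)

end Cfsg.Lib.RealSize
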